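import Groth.Agent.H8Norm.FlatMono.Piece
import Groth.Agent.H10Coh.Support
import Groth.Agent.S9028
import Groth.Agent.H8Props.RelAssBC.Scheme

/-!
# `F_d` under base change and etale covers of the support; transport of dévissages
-/

set_option autoImplicit false
set_option linter.style.haveILetI false
set_option backward.isDefEq.respectTransparency false
set_option maxHeartbeats 1000000

universe u

open CategoryTheory CategoryTheory.Limits AlgebraicGeometry TensorProduct

namespace Groth.Agent.H8Norm.FlatMono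

open H8Props.FunDescent H06Mod

section Modules

variable {X Y : Scheme.{u}}

theorem subsingleton_stalk_pullback (g : X ⟶ Y) (M : Y.Modules) {x : X}
    (h : Subsingleton (M.presheaf.stalk (g x))) :
    Subsingleton (((Scheme.Modules.pullback g).obj M).presheaf.stalk x) := by
  haveI : Subsingleton (M.presheaf.stalk (g.base x)) := h
  letI := (g.stalkMap x).hom.toAlgebra
  exact (H06Mod.pullStalkEquiv g M x).toEquiv.symm.subsingleton

theorem subsingleton_stalk_of_pullback (g : X ⟶ Y) [Flat g] (M : Y.Modules) {x : X}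
    (h : Subsingleton (((Scheme.Modules.pullback g).obj M).presheaf.stalk x)) :
    Subsingleton (M.presheaf.stalk (g x)) :=
  (H06Mod.pullStalk_injective g M x).subsingleton

theorem isFlatOverAt_of_subsingleton (q : X ⟶ Y) (G : X.Modules) {x : X}
    (h : Subsingleton (G.presheaf.stalk x)) : FlatMod.IsFlatOverAt q G x := by
  letI := FlatMod.moduleStalkOver q G x
  haveI := h
  exact Module.Flat.of_free

end Modules

variable {X S : Scheme.{u}} (f : X ⟶ S) [LocallyOfFiniteType f] (F : X.Modules)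

theorem dimP_congr_iso {G : X.Modules} (e : F ≅ G) (n : ℕ) (T : Scheme.{u}) (t : T ⟶ S) :
    dimP f F n T t ↔ dimP f G n T t := by
  have he : ∀ x : PicF.XT f (Over.mk t), FlatMod.IsFlatOverAt (PicF.XTproj f (Over.mk t)) (FGA.ET f F (Over.mk t)) x ↔
      FlatMod.IsFlatOverAt (PicF.XTproj f (Over.mk t)) (FGA.ET f G (Over.mk t)) x :=
    H06EGA9.isFlatOverAt_congr_iso _ ((Scheme.Modules.pullback (pullback.fst f t)).mapIso e)
  exact ⟨fun h x hx => h x fun H => hx ((he x).1 H), fun h x hx => h x fun H => hx ((he x).2 H)⟩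

theorem dimP_baseChange {X' S' : Scheme.{u}} {g' : X' ⟶ X} {f' : X' ⟶ S'} {q : S' ⟶ S}
    (hc : IsPullback g' f' f q) (n : ℕ) (T : Scheme.{u}) (t : T ⟶ S') :
    dimP f' ((Scheme.Modules.pullback g').obj F) n T t ↔ dimP f F n T (t ≫ q) := by
  let p₁ := pullback.fst f' t
  let p₂ := pullback.snd f' t
  have hp : IsPullback (p₁ ≫ g') p₂ f (t ≫ q) := (IsPullback.of_hasPullback f' t).paste_horiz hc
  let e := hp.isoPullback
  have hw : e.hom ≫ pullback.snd f (t ≫ q) = p₂ := hp.isoPullback_hom_snd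
  let E : (Scheme.Modules.pullback e.hom).obj ((Scheme.Modules.pullback (pullback.fst f (t ≫ q))).obj F) ≅
      (Scheme.Modules.pullback p₁).obj ((Scheme.Modules.pullback g').obj F) :=
    (Scheme.Modules.pullbackComp _ _).app F ≪≫
      (Scheme.Modules.pullbackCongr hp.isoPullback_hom_fst).app F ≪≫
      ((Scheme.Modules.pullbackComp p₁ g').app F).symm
  haveI : LocallyOfFiniteType (pullback.snd f (t ≫ q)) := inferInstance
  have hfl : ∀ x, FlatMod.IsFlatOverAt p₂ ((Scheme.Modules.pullback p₁).obj ((Scheme.Modules.pullback g').obj F)) x ↔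
      FlatMod.IsFlatOverAt (pullback.snd f (t ≫ q))
        ((Scheme.Modules.pullback (pullback.fst f (t ≫ q))).obj F) (e.hom x) := fun x => by
    rw [← H06EGA9.isFlatOverAt_congr_iso _ E x, ← isFlatOverAt_congr hw _ x]
    exact isFlatOverAt_pullback_iff e.hom _ _ x
  have htr : ∀ x, pointTrdeg p₂ x = pointTrdeg (pullback.snd f (t ≫ q)) (e.hom x) := fun x =>
    pointTrdeg_eq_of_iso (g := 𝟙 _) (by rw [Category.comp_id, hw]) x
  constructor
  · intro h y hy
    obtain ⟨x, rfl⟩ : ∃ x, e.hom x = y := ⟨e.inv y, by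
      rw [← Scheme.Hom.comp_apply, Iso.inv_hom_id]; rfl⟩
    exact (htr x).symm.trans_lt (h x fun H => hy ((hfl x).1 H))
  · intro h x hx
    exact (htr x).trans_lt (h (e.hom x) fun H => hx ((hfl x).2 H))

omit [LocallyOfFiniteType f] in
theorem subset_support_relAss {x : X} (hx : x ∈ MoreMor.relAss f F) : x ∈ CohB1.support F := by
  intro hs
  haveI := hs
  obtain ⟨hp, z, hz⟩ := hx
  refine hp.ne_top ?_
  obtain ⟨m, rfl⟩ := Submodule.Quotient.mk_surjective _ z
  rw [hz, Subsingleton.elim m 0, Submodule.Quotient.mk_zero, Ideal.radical_eq_top]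
  ext r
  simp [Submodule.mem_colon_singleton]

/-- Etale morphisms covering the relative assassin detect flatness in high dimensions. -/
theorem dimP_iff_forall (hF : Coh.IsQCoh F) (hFt : CohB1.IsFT F) {I : Type*} (P : I → Scheme.{u})
    (h : ∀ i, P i ⟶ X) [∀ i, Etale (h i)] (n : ℕ) (T : Scheme.{u}) (t : T ⟶ S)
    (hcov : ∀ x ∈ MoreMor.relAss f F, f x ∈ Set.range t → ∃ i, x ∈ Set.range (h i)) :
    dimP f F n T t ↔ ∀ i, dimP (h i ≫ f) ((Scheme.Modules.pullback (h i)).obj F) n T t := by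
  refine ⟨fun hT i => dimCond_pullback (h i) f (Over.mk t) F n hT, fun hi x hx => ?_⟩
  haveI : Coh.IsQCoh F := hF
  let q := PicF.XTproj f (Over.mk t)
  haveI : LocallyOfFiniteType q := locallyOfFiniteType_XTproj f (Over.mk t)
  show pointTrdeg q x < _
  by_contra hlt
  refine hx (H8Props.FlatGen.isFlatOverAt_of_relAss q (FGA.ET f F (Over.mk t))
    (H29Fitt.isQCoh_pullback _ F hF) (H29Fitt.isFT_pullback _ F hF hFt) x fun y hy hyx hq => ?_)
  by_contra hyn
  have hy1 := H8Props.RelAssBC.map_mem_relAss F (IsPullback.of_hasPullback f t) hy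
  obtain ⟨i, x', hx'⟩ := hcov _ hy1 ⟨pullback.snd f t y, by
    rw [← Scheme.Hom.comp_apply, ← Scheme.Hom.comp_apply, pullback.condition]⟩
  have hsq := isPullback_liftXT (h i) f (Over.mk t)
  obtain ⟨y', hy'⟩ : y ∈ Set.range (liftXT (h i) f (Over.mk t)) :=
    (Scheme.Pullback.exists_preimage_pullback (f := pullback.fst f t) (g := h i) y x' hx'.symm).elim
      fun z hz => ⟨hsq.isoPullback.inv z, by
        rw [← Scheme.Hom.comp_apply, IsPullback.isoPullback_inv_fst]; exact hz.1⟩
  have hlty := hi i y' fun H => hyn (hy' ▸ (isFlatOverAt_liftXT_iff (h i) f (Over.mk t) F y').1 H)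
  change pointTrdeg (PicF.XTproj (h i ≫ f) (Over.mk t)) y' < _ at hlty
  rw [pointTrdeg_liftXT (h i) f (Over.mk t) y', hy'] at hlty
  exact hlt ((Groth.Agent.S9028.pointTrdeg_le_of_specializes q hyx hq).trans_lt hlty)

/-- A dévissage only depends on the algebra and the module up to isomorphism. -/
theorem exists_devissage_of_bijective {R S S' : Type u} [CommRing R] [CommRing S] [CommRing S'] [Algebra R S]
    [Algebra R S'] [Algebra S' S] [IsScalarTower R S' S] {N N' : Type u} [AddCommGroup N] [Module S N]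
    [Module S' N] [IsScalarTower S' S N] [AddCommGroup N'] [Module S' N']
    (hS : Function.Bijective (algebraMap S' S)) (e : N' ≃ₗ[S'] N) {p : Ideal R} [p.IsPrime]
    (𝒟 : FlatCA.CompleteDevissage R S N p) (d : ℕ → ℕ)
    (hd : ∀ i, i < 𝒟.n → FlatCA.SmoothRelDim (d i) R (𝒟.B i)) :
    ∃ 𝒟' : FlatCA.CompleteDevissage R S' N' p,
      ∀ i, i < 𝒟'.n → ∃ m : ℕ, FlatCA.SmoothRelDim m R (𝒟'.B i) := by
  letI : Algebra S' (𝒟.A 0) := ((algebraMap S (𝒟.A 0)).comp (algebraMap S' S)).toAlgebra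
  haveI : IsScalarTower S' S (𝒟.A 0) := .of_algebraMap_eq fun _ => rfl
  haveI : IsScalarTower R S' (𝒟.A 0) := .of_algebraMap_eq fun r => by
    show algebraMap R (𝒟.A 0) r = algebraMap S (𝒟.A 0) (algebraMap S' S (algebraMap R S' r))
    rw [← IsScalarTower.algebraMap_apply R S' S, ← IsScalarTower.algebraMap_apply]
  letI : Module S' (𝒟.M 0) := Module.compHom _ (algebraMap S' S)
  haveI : IsScalarTower S' S (𝒟.M 0) := .of_algebraMap_smul fun _ _ => rfl
  haveI : IsScalarTower S' (𝒟.A 0) (𝒟.M 0) := .of_algebraMap_smul fun a m => by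
    show algebraMap S (𝒟.A 0) (algebraMap S' S a) • m = algebraMap S' S a • m
    rw [algebraMap_smul]
  have hfp : Algebra.FinitePresentation S' S :=
    RingHom.finitePresentation_algebraMap.1 (RingHom.FinitePresentation.of_bijective hS)
  refine ⟨FlatCA.CompleteDevissage.mk (n := 𝒟.n) (pos := 𝒟.pos) (A := 𝒟.A) (B := 𝒟.B) (M := 𝒟.M)
      (r := 𝒟.r) (α := 𝒟.α) (surjSA := ?_) (fpSA := ?_) (surjBA' := 𝒟.surjBA')
      (fpBA' := 𝒟.fpBA') (finiteBA := 𝒟.finiteBA) (smooth := 𝒟.smooth) (geomIrred := 𝒟.geomIrred)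
      (finiteM := 𝒟.finiteM) (isoN := e ≪≫ₗ 𝒟.isoN.restrictScalars S') (isoCoker := 𝒟.isoCoker)
      (fibreIso := 𝒟.fibreIso) (cokerLast := 𝒟.cokerLast), fun i hi => ⟨d i, hd i hi⟩⟩
  · exact 𝒟.surjSA.comp hS.surjective
  · haveI := 𝒟.fpSA
    exact Algebra.FinitePresentation.trans S' S (𝒟.A 0)

end Groth.Agent.H8Norm.FlatMono
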