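import Groth.Agent.H13Desc.Eff.Lqf
import Groth.Agent.H13Desc.Eff.Sigma
import Groth.Agent.H13Desc.Eff.Cover
import Groth.Agent.H18Descent.Basic
import Mathlib.AlgebraicGeometry.Morphisms.LocalFlatDescent
import Mathlib.AlgebraicGeometry.Morphisms.FlatMono

/-!
# Conditions on test schemes represented by monomorphisms: gluing and descent
-/

set_option autoImplicit false
set_option linter.style.haveILetI false
set_option linter.unusedSectionVars false
set_option backward.isDefEq.respectTransparency false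

universe u

open CategoryTheory CategoryTheory.Limits AlgebraicGeometry Desc

namespace Groth.Agent.H8Norm.FlatMono

variable {S : Scheme.{u}}

/-- A condition on schemes over the base. -/
abbrev Cond (S : Scheme.{u}) : Type (u + 1) := ∀ T : Scheme.{u}, (T ⟶ S) → Prop

/-- Stability under base change and locality for flat covers. -/
structure IsLocalCond (P : Cond S) : Prop where
  comp : ∀ {T' T : Scheme.{u}} (g : T' ⟶ T) {t : T ⟶ S}, P T t → P T' (g ≫ t)
  local' : ∀ {T : Scheme.{u}} (t : T ⟶ S) {ι : Type u} (U : ι → Scheme.{u}) (g : ∀ i, U i ⟶ T),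
    (∀ i, Flat (g i)) → (∀ x, ∃ i, x ∈ Set.range (g i)) → (∀ i, P (U i) (g i ≫ t)) → P T t

/-- The condition pulled back. -/
abbrev Cond.pull (P : Cond S) {U : Scheme.{u}} (p : U ⟶ S) : Cond U := fun T x => P T (x ≫ p)

theorem IsLocalCond.pull {P : Cond S} (hP : IsLocalCond P) {U : Scheme.{u}} (p : U ⟶ S) :
    IsLocalCond (P.pull p) where
  comp g t h := by
    show P _ ((g ≫ t) ≫ p)
    rw [Category.assoc]; exact hP.comp g h
  local' t _ V g hf hs h := hP.local' (t ≫ p) V g hf hs fun i => by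
    rw [← Category.assoc]; exact h i

theorem IsLocalCond.descend {P : Cond S} (hP : IsLocalCond P) {T' T : Scheme.{u}} (g : T' ⟶ T)
    [Flat g] [Surjective g] {t : T ⟶ S} (h : P T' (g ≫ t)) : P T t :=
  hP.local' t (ι := PUnit.{u + 1}) (fun _ => T') (fun _ => g) (fun _ => ‹_›)
    (fun x => ⟨⟨⟩, g.surjective x⟩) fun _ => h

/-- `ι` is a monomorphism of finite presentation representing the condition. -/
structure Represents (P : Cond S) {Z : Scheme.{u}} (ι : Z ⟶ S) : Prop where
  mono : Mono ι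
  lfp : LocallyOfFinitePresentation ι
  qc : QuasiCompact ι
  iff : ∀ (T : Scheme.{u}) (t : T ⟶ S), P T t ↔ ∃ k, k ≫ ι = t

/-- There is a representing monomorphism. -/
def IsRep (P : Cond S) : Prop := ∃ (Z : Scheme.{u}) (ι : Z ⟶ S), Represents P ι

theorem isRep_congr {P Q : Cond S} (h : ∀ T t, P T t ↔ Q T t) (hP : IsRep P) : IsRep Q := by
  obtain ⟨Z, ι, h1, h2, h3, h4⟩ := hP
  exact ⟨Z, ι, h1, h2, h3, fun T t => (h T t).symm.trans (h4 T t)⟩

/-- A morphism factors through a monomorphism as soon as it does locally. -/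
theorem exists_factor_of_cover {Z T : Scheme.{u}} (ι : Z ⟶ S) [Mono ι] (t : T ⟶ S) (𝒱 : T.OpenCover)
    (h : ∀ j, ∃ k, k ≫ ι = 𝒱.f j ≫ t) : ∃ k, k ≫ ι = t := by
  choose k hk using h
  refine ⟨𝒱.glueMorphisms k fun i j => ?_, 𝒱.hom_ext _ _ fun j => ?_⟩
  · rw [← cancel_mono ι, Category.assoc, Category.assoc, hk, hk, pullback.condition_assoc]
  · rw [Scheme.Cover.ι_glueMorphisms_assoc, hk]

/-- It suffices to test on affine schemes. -/
theorem represents_of_affine {P : Cond S} (hP : IsLocalCond P) {Z : Scheme.{u}} (ι : Z ⟶ S) [Mono ι]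
    [LocallyOfFinitePresentation ι] [QuasiCompact ι]
    (h : ∀ (R : CommRingCat.{u}) (t : Spec R ⟶ S), P (Spec R) t ↔ ∃ k, k ≫ ι = t) : Represents P ι where
  mono := inferInstance
  lfp := inferInstance
  qc := inferInstance
  iff T t := by
    constructor
    · intro ht
      exact exists_factor_of_cover ι t T.affineCover fun j => (h _ _).1 (hP.comp _ ht)
    · rintro ⟨k, rfl⟩
      exact hP.local' _ T.affineCover.X T.affineCover.f (fun _ => inferInstance)
        (fun x => T.affineCover.exists_eq x |>.imp fun j hj => hj)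
        fun j => (h _ _).2 ⟨T.affineCover.f j ≫ k, Category.assoc _ _ _⟩

/-- The whole base. -/
theorem isRep_true {P : Cond S} (h : ∀ T t, P T t) : IsRep P :=
  ⟨S, 𝟙 S, inferInstance, inferInstance, inferInstance, fun T t =>
    iff_of_true (h T t) ⟨t, Category.comp_id t⟩⟩

theorem isRep_and {P Q : Cond S} (hP : IsRep P) (hQ : IsRep Q) : IsRep fun T t => P T t ∧ Q T t := by
  obtain ⟨Z, ι, h1, h2, h3, h4⟩ := hP
  obtain ⟨W, κ, g1, g2, g3, g4⟩ := hQ
  refine ⟨pullback ι κ, pullback.fst ι κ ≫ ι, mono_comp _ _, inferInstance, inferInstance, fun T t => ?_⟩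
  constructor
  · rintro ⟨hp, hq⟩
    obtain ⟨k, hk⟩ := (h4 T t).1 hp
    obtain ⟨l, hl⟩ := (g4 T t).1 hq
    exact ⟨pullback.lift k l (hk.trans hl.symm), by rw [pullback.lift_fst_assoc, hk]⟩
  · rintro ⟨k, rfl⟩
    exact ⟨(h4 _ _).2 ⟨k ≫ pullback.fst ι κ, Category.assoc _ _ _⟩,
      (g4 _ _).2 ⟨k ≫ pullback.snd ι κ, by rw [Category.assoc, ← pullback.condition]⟩⟩

theorem isRep_forall {k : ℕ} (P : Fin k → Cond S) (h : ∀ i, IsRep (P i)) :
    IsRep fun T t => ∀ i, P i T t := by
  induction k with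
  | zero => exact isRep_true fun T t i => i.elim0
  | succ k ih =>
    exact isRep_congr (fun T t => (Fin.forall_fin_succ (P := fun i => P i T t)).symm)
      (isRep_and (h 0) (ih (fun i => P i.succ) fun i => h i.succ))

/-- Composing representations. -/
theorem isRep_comp {P Q : Cond S} (hPQ : ∀ T t, P T t → Q T t) {Z : Scheme.{u}} {ι : Z ⟶ S}
    (hQ : Represents Q ι) (h : IsRep (P.pull ι)) : IsRep P := by
  obtain ⟨W, κ, g1, g2, g3, g4⟩ := h
  obtain ⟨h1, h2, h3, h4⟩ := hQ
  refine ⟨W, κ ≫ ι, mono_comp _ _, inferInstance, inferInstance, fun T t => ⟨fun ht => ?_, ?_⟩⟩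
  · obtain ⟨k, rfl⟩ := (h4 T t).1 (hPQ T t ht)
    obtain ⟨l, rfl⟩ := (g4 T k).1 ht
    exact ⟨l, (Category.assoc _ _ _).symm⟩
  · rintro ⟨k, rfl⟩
    have := (g4 T (k ≫ κ)).2 ⟨k, rfl⟩
    rwa [Cond.pull, Category.assoc] at this

variable {U : Scheme.{u}} (p : U ⟶ S) [Flat p] [Surjective p] [LocallyOfFinitePresentation p]

instance : (MorphismProperty.monomorphisms Scheme.{u}).DescendsAlong
    (@Surjective ⊓ @Flat ⊓ @QuasiCompact : MorphismProperty Scheme.{u}) := by
  rw [← MorphismProperty.diagonal_isomorphisms]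
  infer_instance

omit [Flat p] [Surjective p] [LocallyOfFinitePresentation p] in
theorem lifts_ext {Z V : Scheme.{u}} {ι : Z ⟶ V} [Mono ι] {T : Scheme.{u}} {x : T ⟶ V}
    (v v' : Lifts (Over.mk ι) x) : v = v' :=
  Subtype.ext ((cancel_mono ι).1 (v.2.trans v'.2.symm))

omit [Flat p] [Surjective p] [LocallyOfFinitePresentation p] in
/-- Transport of lifts along points with the same image. -/
theorem exists_move {P : Cond S} {Z : Scheme.{u}} {ι : Z ⟶ U}
    (hι : ∀ (T : Scheme.{u}) (x : T ⟶ U), P.pull p T x ↔ ∃ k, k ≫ ι = x) {T : Scheme.{u}}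
    {x₀ x₁ : T ⟶ U} (e : x₀ ≫ p = x₁ ≫ p) (v : Lifts (Over.mk ι) x₀) :
    ∃ k, k ≫ ι = x₁ :=
  (hι T x₁).1 (show P T (x₁ ≫ p) from e ▸ (hι T x₀).2 ⟨v.1, v.2⟩)

/-- Representability descends along an fppf cover. -/
theorem isRep_of_cover {P : Cond S} (hP : IsLocalCond P) (h : IsRep (P.pull p)) : IsRep P := by
  obtain ⟨Z, ι, hm, hf, hq, hι⟩ := h
  let D : SchDD p :=
    { obj := Over.mk ι
      φ := fun T x₀ x₁ e =>
        { toFun := fun v => ⟨(exists_move p hι e v).choose, (exists_move p hι e v).choose_spec⟩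
          invFun := fun v => ⟨(exists_move p hι e.symm v).choose, (exists_move p hι e.symm v).choose_spec⟩
          left_inv := fun v => lifts_ext _ _
          right_inv := fun v => lifts_ext _ _ }
      φ_natural := fun T T' g x₀ x₁ e e' v v' _ => (cancel_mono ι).1
        ((exists_move p hι e' v').choose_spec.trans
          ((congrArg (g ≫ ·) (exists_move p hι e v).choose_spec.symm).trans (Category.assoc _ _ _).symm))
      φ_self := fun T x v => lifts_ext _ _
      φ_comp := fun T x₀ x₁ x₂ e₀ e₁ v => lifts_ext _ _ }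
  haveI : IsSeparated D.obj.hom := inferInstanceAs (IsSeparated ι)
  haveI : LocallyQuasiFinite D.obj.hom := inferInstanceAs (LocallyQuasiFinite ι)
  haveI : LocallyOfFiniteType D.obj.hom := inferInstanceAs (LocallyOfFiniteType ι)
  obtain ⟨Z₀, ⟨e⟩⟩ := H13Desc.Eff.isEffective_lqf p D
  let E : pullback p Z₀.hom ⟶ Z := e.hom.hom.left
  have hE : E ≫ ι = pullback.fst p Z₀.hom := Over.w e.hom.hom
  haveI : IsIso E := by
    refine ⟨e.inv.hom.left, ?_, ?_⟩
    · show e.hom.hom.left ≫ e.inv.hom.left = _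
      rw [← Over.comp_left, ← SchDD.comp_hom, e.hom_inv_id]; rfl
    · show e.inv.hom.left ≫ e.hom.hom.left = _
      rw [← Over.comp_left, ← SchDD.comp_hom, e.inv_hom_id]; rfl
  haveI : Mono (pullback.fst p Z₀.hom) := hE ▸ mono_comp E ι
  haveI : LocallyOfFinitePresentation (pullback.fst p Z₀.hom) := hE ▸ inferInstance
  haveI : QuasiCompact (pullback.fst p Z₀.hom) := hE ▸ inferInstance
  haveI : Mono Z₀.hom := H13Desc.Eff.IsCover.descend p (MorphismProperty.monomorphisms Scheme.{u})
    (IsPullback.of_hasPullback p Z₀.hom) (show Mono _ from inferInstance)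
  haveI : LocallyOfFinitePresentation Z₀.hom := H13Desc.Eff.IsCover.descend p @LocallyOfFinitePresentation
    (IsPullback.of_hasPullback p Z₀.hom) inferInstance
  haveI : QuasiCompact Z₀.hom := H13Desc.Eff.IsCover.descend p @QuasiCompact
    (IsPullback.of_hasPullback p Z₀.hom) inferInstance
  refine ⟨Z₀.left, Z₀.hom, inferInstance, inferInstance, inferInstance, fun T t => ⟨fun ht => ?_, ?_⟩⟩
  · -- the base change of the representing monomorphism to `T` is an isomorphism
    have hc := hP.comp (pullback.snd p t) ht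
    rw [← pullback.condition] at hc
    obtain ⟨k, hk⟩ := (hι _ (pullback.fst p t)).1 hc
    have hk' : (k ≫ inv E) ≫ pullback.fst p Z₀.hom = pullback.fst p t := by
      rw [← hE, Category.assoc, IsIso.inv_hom_id_assoc, hk]
    let r : pullback p t ⟶ pullback t Z₀.hom :=
      pullback.lift (pullback.snd p t) ((k ≫ inv E) ≫ pullback.snd p Z₀.hom) (by
        rw [Category.assoc, ← pullback.condition (f := p) (g := Z₀.hom), ← Category.assoc (k ≫ inv E), hk', pullback.condition])
    let q := pullback.fst t Z₀.hom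
    haveI : IsIso (pullback.fst (pullback.snd p t) q) := by
      refine ⟨pullback.lift (𝟙 _) r (by rw [Category.id_comp, pullback.lift_fst]), ?_, pullback.lift_fst _ _ _⟩
      rw [← cancel_mono (pullback.fst (pullback.snd p t) q), Category.assoc, pullback.lift_fst,
        Category.comp_id, Category.id_comp]
    haveI : IsIso q := H13Desc.Eff.IsCover.descend (pullback.snd p t) (MorphismProperty.isomorphisms Scheme.{u})
      (IsPullback.of_hasPullback (pullback.snd p t) q) (show IsIso _ from inferInstance)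
    exact ⟨inv q ≫ pullback.snd t Z₀.hom, by
      rw [Category.assoc, ← pullback.condition, IsIso.inv_hom_id_assoc]⟩
  · rintro ⟨k, rfl⟩
    refine hP.descend (pullback.snd p (k ≫ Z₀.hom)) ?_
    rw [← pullback.condition]
    refine (hι _ _).2 ⟨pullback.lift (pullback.fst p (k ≫ Z₀.hom)) (pullback.snd p (k ≫ Z₀.hom) ≫ k)
      (by rw [pullback.condition, Category.assoc]) ≫ E, ?_⟩
    rw [Category.assoc, hE, pullback.lift_fst]

omit p in
/-- Representability descends along a jointly surjective family of flat morphisms of finite presentation. -/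
theorem isRep_of_family {P : Cond S} (hP : IsLocalCond P) {I : Type u} (V : I → Scheme.{u})
    (q : ∀ i, V i ⟶ S) (hfl : ∀ i, Flat (q i)) (hfp : ∀ i, LocallyOfFinitePresentation (q i))
    (hs : ∀ x, ∃ i, x ∈ Set.range (q i)) (h : ∀ i, IsRep (P.pull (q i))) : IsRep P := by
  haveI : Flat (Sigma.desc q) := IsZariskiLocalAtSource.sigmaDesc hfl
  haveI : LocallyOfFinitePresentation (Sigma.desc q) := IsZariskiLocalAtSource.sigmaDesc hfp
  haveI : Surjective (Sigma.desc q) := ⟨fun x => by
    obtain ⟨i, y, hy⟩ := hs x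
    exact ⟨Sigma.ι V i y, by rw [← Scheme.Hom.comp_apply, Sigma.ι_desc, hy]⟩⟩
  refine isRep_of_cover (Sigma.desc q) hP ?_
  choose Z ι hrep using h
  have hm := fun i => (hrep i).mono
  have hf := fun i => (hrep i).lfp
  have hqc := fun i => (hrep i).qc
  have hι := fun i => (hrep i).iff
  let κ : ∐ Z ⟶ ∐ V := Limits.Sigma.map ι
  have hbc : ∀ (Q : MorphismProperty Scheme.{u}) [IsZariskiLocalAtTarget Q], (∀ i, Q (ι i)) → Q κ := by
    intro Q _ hQ
    refine IsZariskiLocalAtTarget.of_openCover (sigmaOpenCover V) fun i => ?_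
    refine (Q.arrow_mk_iso_iff ?_).1 (hQ i)
    exact Arrow.isoMk (H13Desc.Eff.isPullback_sigmaMap ι i).flip.isoPullback (Iso.refl _) (by
      show _ ≫ pullback.snd _ _ = _ ≫ 𝟙 _
      refine (IsPullback.isoPullback_hom_snd _).trans ?_
      exact (Category.comp_id _).symm)
  haveI : Mono κ := hbc (MorphismProperty.monomorphisms Scheme.{u}) hm
  haveI : LocallyOfFinitePresentation κ := hbc @LocallyOfFinitePresentation hf
  haveI : QuasiCompact κ := hbc @QuasiCompact hqc
  refine ⟨∐ Z, κ, inferInstance, inferInstance, inferInstance, fun T x => ?_⟩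
  let 𝒰 : T.OpenCover := (sigmaOpenCover V).pullback₁ x
  have hw : ∀ i, 𝒰.f i ≫ x = pullback.snd x (Sigma.ι V i) ≫ Sigma.ι V i := fun i => pullback.condition
  constructor
  · intro hx
    refine exists_factor_of_cover κ x 𝒰 fun i => ?_
    have h1 := hP.comp (𝒰.f i) hx
    rw [reassoc_of% hw i, Sigma.ι_desc] at h1
    obtain ⟨k, hk⟩ := (hι i _ _).1 h1
    exact ⟨k ≫ Sigma.ι Z i, by rw [Category.assoc, Limits.Sigma.ι_map, reassoc_of% hk, hw]⟩
  · rintro ⟨k, rfl⟩
    refine hP.local' _ 𝒰.X 𝒰.f (fun i => inferInstance) (fun y => 𝒰.exists_eq y) fun i => ?_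
    rw [← Category.assoc, hw, Category.assoc, Sigma.ι_desc]
    exact (hι i _ _).2 ⟨(H13Desc.Eff.isPullback_sigmaMap ι i).lift
      (pullback.snd (k ≫ κ) (Sigma.ι V i)) (𝒰.f i ≫ k) (by rw [Category.assoc]; exact (hw i).symm),
      (H13Desc.Eff.isPullback_sigmaMap ι i).lift_fst _ _ _⟩

end Groth.Agent.H8Norm.FlatMono
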