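import Groth.Agent.H8Norm.FlatMono.Step
import Groth.Agent.H7Flat.FibreDimConstructible
import Groth.Agent.H8Props.FibreDimSemicont
import Groth.Agent.H8Props.FibreStalk

/-!
# The flattening monomorphism of a proper morphism of finite presentation
-/

set_option autoImplicit false
set_option linter.style.haveILetI false
set_option backward.isDefEq.respectTransparency false

universe u

open CategoryTheory CategoryTheory.Limits AlgebraicGeometry

namespace Groth.Agent.H8Norm.FlatMono

open H8Props.FunDescent H06Mod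

variable {X S : Scheme.{u}} (f : X ⟶ S) (F : X.Modules)

/-- Over a quasi-compact base flatness in very high dimensions is automatic. -/
theorem exists_bound [LocallyOfFiniteType f] [CompactSpace X] :
    ∃ N : ℕ, ∀ (T : Scheme.{u}) (t : T ⟶ S), dimP f F N T t := by
  obtain ⟨k, hk⟩ : ∃ k : Finset ℕ, (Set.univ : Set X) ⊆ ⋃ n ∈ k, {x : X | FlatMor.fibreDimAt f x ≤ (n : ℕ)} :=
    isCompact_univ.elim_finite_subcover (fun n : ℕ => {x : X | FlatMor.fibreDimAt f x ≤ (n : ℕ)})
      (fun n => H8Props.FieldDim.isOpen_fibreDimAt_le f n) fun x _ =>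
        Set.mem_iUnion.2 (H7Flat.exists_nat_fibreDimAt f x)
  refine ⟨k.sup id + 1, fun T t x _ => ?_⟩
  show pointTrdeg (pullback.snd f t) x < _
  refine (pointTrdeg_le (IsPullback.of_hasPullback f t) x).trans_lt ?_
  let y := pullback.fst f t x
  obtain ⟨n, hn, hy⟩ := Set.mem_iUnion₂.1 (hk (Set.mem_univ y))
  obtain ⟨s, hs, hs'⟩ := exists_cdim_pointTrdeg f (f.asFiber y) (f.fiberι_asFiber y)
  have h1 : s ≤ k.sup id := le_trans (by
    have := (cdim_le_fibreDimAt f y).trans hy
    rw [hs] at this
    exact_mod_cast this) (Finset.le_sup (f := id) hn)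
  rw [hs']
  exact Nat.cast_lt.2 (Nat.lt_succ_of_le h1)

variable [QuasiCompact f] [LocallyOfFinitePresentation f] (hF : CohB1.IsFP F) (hgood : Good f F)

include hF hgood in
theorem isRep_dimP_of_compact [CompactSpace X] (n : ℕ) : IsRep (dimP f F n) := by
  obtain ⟨N, hN⟩ := exists_bound f F
  suffices H : ∀ k m, N ≤ m + k → IsRep (dimP f F m) from H N n (by omega)
  intro k
  induction k with
  | zero =>
    exact fun m hm => isRep_true fun T t x hx =>
      lt_of_lt_of_le (hN T t x hx) (Nat.cast_le.2 (by omega))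
  | succ k ih =>
    intro m hm
    obtain ⟨Z, ι, hZ⟩ := ih (m + 1) (by omega)
    refine isRep_comp (fun T t h x hx => lt_of_lt_of_le (h x hx) (Nat.cast_le.2 (by omega))) hZ ?_
    haveI := hZ.mono
    haveI := hZ.lfp
    refine isRep_congr (fun T t => dimP_baseChange f F (IsPullback.of_hasPullback f ι) m T t)
      (isRep_step (pullback.snd f ι) _ (H06EGA9.isFP_pullback _ hF)
        (hgood.baseChange (IsPullback.of_hasPullback f ι)) m ?_)
    rw [dimP_baseChange f F (IsPullback.of_hasPullback f ι), Category.id_comp]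
    exact (hZ.iff Z ι).2 ⟨𝟙 Z, Category.id_comp ι⟩

include hF hgood in
/-- Flatness in dimensions at least `n` is represented by a monomorphism of finite presentation. -/
theorem isRep_dimP (n : ℕ) : IsRep (dimP f F n) := by
  refine isRep_of_family (isLocalCond_dimP f F n) S.affineCover.X S.affineCover.f
    (fun i => inferInstance) (fun i => inferInstance) (fun x => S.affineCover.exists_eq x) fun i => ?_
  let q := S.affineCover.f i
  haveI : CompactSpace ↥(pullback f q) := QuasiCompact.compactSpace_of_compactSpace (pullback.snd f q)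
  exact isRep_congr (fun T t => dimP_baseChange f F (IsPullback.of_hasPullback f q) n T t)
    (isRep_dimP_of_compact (pullback.snd f q) _ (H06EGA9.isFP_pullback _ hF)
      (hgood.baseChange (IsPullback.of_hasPullback f q)) n)

theorem dimP_zero_iff (T : Scheme.{u}) (t : T ⟶ S) :
    dimP f F 0 T t ↔
      FlatMod.IsFlatOver (pullback.snd f t) ((Scheme.Modules.pullback (pullback.fst f t)).obj F) := by
  refine ⟨fun h x => ?_, fun h x hx => absurd (h x) hx⟩
  by_contra hx
  exact absurd (h x hx) (not_lt.2 (by simp))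

omit [QuasiCompact f] in
include hF in
theorem exists_flattening [IsProper f] :
    ∃ (S' : Scheme.{u}) (ι : S' ⟶ S), Mono ι ∧ LocallyOfFinitePresentation ι ∧ QuasiCompact ι ∧ Surjective ι ∧
      ∀ (T : Scheme.{u}) (t : T ⟶ S),
        FlatMod.IsFlatOver (pullback.snd f t) ((Scheme.Modules.pullback (pullback.fst f t)).obj F) ↔
          ∃ t' : T ⟶ S', t' ≫ ι = t := by
  obtain ⟨S', ι, h1, h2, h3, h4⟩ := isRep_dimP f F hF (good_of_isProper f F hF) 0
  refine ⟨S', ι, h1, h2, h3, ⟨fun s => ?_⟩, fun T t => (dimP_zero_iff f F T t).symm.trans (h4 T t)⟩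
  let t := S.fromSpecResidueField s
  obtain ⟨k, hk⟩ : ∃ k, k ≫ ι = t := (h4 _ t).1 ((dimP_zero_iff f F _ t).2 fun x => by
    let G := (Scheme.Modules.pullback (pullback.fst f t)).obj F
    letI := FlatMod.moduleStalkOver (pullback.snd f t) G x
    let y := pullback.snd f t x
    letI : Field ((Spec (S.residueField s)).presheaf.stalk y) :=
      (H8Props.FibreStalk.isField_stalk_Spec (S.residueField s) (Field.toIsField _) y).toField
    exact Module.Flat.of_free)
  let y : Spec (S.residueField s) := default
  exact ⟨k y, by rw [← Scheme.Hom.comp_apply, hk, Scheme.fromSpecResidueField_apply]⟩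

end Groth.Agent.H8Norm.FlatMono
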