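import Groth.Agent.H8Norm.FlatMono.Step
import Groth.Agent.S1370
import Groth.Agent.S1226
import Groth.Agent.H16Derived.KFlat.PerfAmp

/-!
# Purity keeps the relative assassin inside opens containing the fibre of the support
-/

set_option autoImplicit false
set_option linter.style.haveILetI false
set_option backward.isDefEq.respectTransparency false
set_option maxHeartbeats 1000000
set_option synthInstance.maxHeartbeats 400000

universe u

open CategoryTheory CategoryTheory.Limits AlgebraicGeometry TensorProduct Topology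

namespace Groth.Agent.H8Norm.FlatMono

open FlatPointScheme

theorem isEtaleNhd_self (A : Type u) [CommRing A] (p : Ideal A) [p.IsPrime] : FlatCA.IsEtaleNhd A A p p := by
  refine ⟨inferInstance, ⟨by rw [Ideal.under_def, Algebra.algebraMap_self, Ideal.comap_id]⟩, ?_⟩
  refine ⟨RingHom.injective _, fun z => ⟨z, ?_⟩⟩
  suffices h : (Ideal.ResidueField.mapₐ p p (Algebra.ofId A A) (Ideal.comap_id p).symm).toRingHom = RingHom.id _ from
    RingHom.congr_fun h z
  refine Ideal.ResidueField.ringHom_ext (RingHom.ext fun a => ?_)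
  simp [Ideal.ResidueField.mapₐ]

/-- A constructible set containing all generalizations of a point contains a basic neighbourhood. -/
theorem exists_basicOpen_subset {R : Type u} [CommRing R] {E : Set (PrimeSpectrum R)} (hE : IsConstructible E)
    (t : PrimeSpectrum R) (h : ∀ s : PrimeSpectrum R, s.asIdeal ≤ t.asIdeal → s ∈ E) :
    ∃ g : R, g ∉ t.asIdeal ∧ ∀ s : PrimeSpectrum R, g ∉ s.asIdeal → s ∈ E := by
  have hclos : t ∉ closure Eᶜ := by
    intro hcl
    obtain ⟨S, _, f, hf⟩ := PrimeSpectrum.exists_range_eq_of_isConstructible hE.compl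
    rw [← hf, PrimeSpectrum.closure_range_comap, PrimeSpectrum.mem_zeroLocus] at hcl
    obtain ⟨P, hP, hPle⟩ := Ideal.exists_minimalPrimes_le (I := RingHom.ker f)
      (J := t.asIdeal) (SetLike.coe_subset_coe.mp hcl)
    haveI := hP.1.1
    obtain ⟨P', hP', -, hP'P⟩ := Ideal.exists_comap_eq_of_mem_minimalPrimes f P hP
    have hmem : (⟨P, inferInstance⟩ : PrimeSpectrum R) ∈ Eᶜ :=
      hf ▸ ⟨⟨P', hP'⟩, PrimeSpectrum.ext hP'P⟩
    exact hmem (h _ hPle)
  obtain ⟨_, ⟨c, rfl⟩, hc, hcsub⟩ := PrimeSpectrum.isTopologicalBasis_basic_opens.exists_subset_of_mem_open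
    hclos isClosed_closure.isOpen_compl
  exact ⟨c, hc, fun s hs => not_not.1 fun hn => hcsub hs (subset_closure hn)⟩

/-- Isomorphic modules have linearly equivalent sections. -/
noncomputable def secEquiv {X : Scheme.{u}} {G G' : X.Modules} (e : G ≅ G') (U : X.Opens) :
    Γ(G, U) ≃ₗ[Γ(X, U)] Γ(G', U) where
  toFun := e.hom.app U
  map_add' := map_add _
  map_smul' r m := Scheme.Modules.Hom.app_smul _ r m
  invFun := e.inv.app U
  left_inv m := by
    show (e.hom.app U ≫ e.inv.app U) m = m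
    rw [← Scheme.Modules.Hom.comp_app, e.hom_inv_id]
    simp
  right_inv m := by
    show (e.inv.app U ≫ e.hom.app U) m = m
    rw [← Scheme.Modules.Hom.comp_app, e.inv_hom_id]
    simp

variable {A : Type u} [CommRing A] {P : Scheme.{u}} [IsAffine P] (f : P ⟶ Spec (CommRingCat.of A))
  [LocallyOfFinitePresentation f] (F : P.Modules) (hF : CohB1.IsFP F)

include hF in
set_option maxHeartbeats 4000000 in
/-- Pure modules on affine schemes are good. -/
theorem good_of_pure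
    (hpure : letI := (secHom f ⊤).hom.toAlgebra
      ∀ (p : Ideal A) [p.IsPrime], FlatCA.IsPureAlong A Γ(P, ⊤) Γ(F, (⊤ : P.Opens)) p) : Good f F := by
  intro R _ q hq hq' X' g' f' G e hc t W hWc hW
  have hqc : Coh.IsQCoh F := H29Fitt.isQCoh_of_isFP F hF
  let T := Spec (CommRingCat.of R)
  haveI : IsAffine X' := .of_isIso hc.isoPullback.hom
  haveI : LocallyOfFinitePresentation f' := MorphismProperty.of_isPullback hc ‹_›
  have hS : IsAffineOpen (⊤ : (Spec (CommRingCat.of A)).Opens) := isAffineOpen_top _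
  have hV : IsAffineOpen (⊤ : T.Opens) := isAffineOpen_top _
  have hU : IsAffineOpen (⊤ : P.Opens) := isAffineOpen_top _
  have hW' : IsAffineOpen (⊤ : X'.Opens) := isAffineOpen_top _
  have e0 : (⊤ : X'.Opens) = g' ⁻¹ᵁ ⊤ ⊓ f' ⁻¹ᵁ ⊤ := by simp
  have hp0 : CategoryTheory.IsPushout (f.appLE ⊤ ⊤ le_top) (q.appLE ⊤ ⊤ le_top)
      (g'.appLE ⊤ ⊤ le_top) (f'.appLE ⊤ ⊤ le_top) :=
    (isIso_pushoutSection_iff hc le_top le_top (UY := ⊤) e0).mp
      (isIso_pushoutSection_of_isAffineOpen hc le_top le_top e0 hS hV hU)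
  have hp : CategoryTheory.IsPushout (secHom f ⊤) (secHom q ⊤)
      (g'.appLE ⊤ ⊤ le_top) (f'.appLE ⊤ ⊤ le_top) :=
    hp0.of_iso' (Scheme.ΓSpecIso (CommRingCat.of A)).symm (Iso.refl _) (Iso.refl _) (Iso.refl _)
      (by simp [secHom]) (by simp [secHom]) (by simp) (by simp)
  letI := (secHom f ⊤).hom.toAlgebra
  letI := (secHom q ⊤).hom.toAlgebra
  letI := (g'.appLE ⊤ ⊤ le_top).hom.toAlgebra
  letI := (f'.appLE ⊤ ⊤ le_top).hom.toAlgebra
  letI : Algebra A Γ(X', ⊤) := ((g'.appLE ⊤ ⊤ le_top).hom.comp (secHom f ⊤).hom).toAlgebra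
  haveI : IsScalarTower A Γ(P, ⊤) Γ(X', ⊤) := .of_algebraMap_eq fun _ => rfl
  haveI : IsScalarTower A Γ(T, ⊤) Γ(X', ⊤) :=
    IsScalarTower.of_algebraMap_eq' (congrArg CommRingCat.Hom.hom hp.w)
  haveI : Algebra.IsPushout A Γ(P, ⊤) Γ(T, ⊤) Γ(X', ⊤) := CommRingCat.isPushout_iff_isPushout.mp hp
  have hbij := (Scheme.ΓSpecIso (CommRingCat.of A)).commRingCatIsoToRingEquiv.symm.bijective
  haveI : Algebra.FiniteType A Γ(P, ⊤) := by
    have h0 : RingHom.FiniteType (f.appLE ⊤ ⊤ le_top).hom := f.finiteType_appLE hS hU le_top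
    exact h0.comp (RingHom.FiniteType.of_surjective _ hbij.surjective)
  haveI : Algebra.FiniteType A Γ(T, ⊤) := by
    have h0 : RingHom.FiniteType (q.appLE ⊤ ⊤ le_top).hom := q.finiteType_appLE hS hV le_top
    exact h0.comp (RingHom.FiniteType.of_surjective _ hbij.surjective)
  haveI : Algebra.QuasiFinite A Γ(T, ⊤) := by
    have h0 : RingHom.QuasiFinite (q.appLE ⊤ ⊤ le_top).hom :=
      HasRingHomProperty.appLE @LocallyQuasiFinite q hq ⟨⊤, hS⟩ ⟨⊤, hV⟩ le_top
    exact h0.comp (RingHom.QuasiFinite.of_finite (RingHom.Finite.of_surjective _ hbij.surjective))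
  haveI : Module.Finite Γ(P, ⊤) Γ(F, (⊤ : P.Opens)) := by
    haveI := H8Props.FinLocFree.finitePresentation_sections F hF hU
    infer_instance
  -- the module
  let F' := (Scheme.Modules.pullback g').obj F
  letI := Module.compHom Γ(F', (⊤ : X'.Opens)) (g'.appLE ⊤ ⊤ le_top).hom
  haveI : IsScalarTower Γ(P, ⊤) Γ(X', ⊤) Γ(F', (⊤ : X'.Opens)) := .of_algebraMap_smul fun _ _ => rfl
  letI := Module.compHom Γ(G, (⊤ : X'.Opens)) (g'.appLE ⊤ ⊤ le_top).hom
  haveI : IsScalarTower Γ(P, ⊤) Γ(X', ⊤) Γ(G, (⊤ : X'.Opens)) := .of_algebraMap_smul fun _ _ => rfl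
  letI := Module.compHom Γ(G, (⊤ : X'.Opens)) (f'.appLE ⊤ ⊤ le_top).hom
  haveI : IsScalarTower Γ(T, ⊤) Γ(X', ⊤) Γ(G, (⊤ : X'.Opens)) := .of_algebraMap_smul fun _ _ => rfl
  let φ : Γ(F, (⊤ : P.Opens)) →ₗ[Γ(P, ⊤)] Γ(G, (⊤ : X'.Opens)) :=
    ((secEquiv e.symm ⊤).restrictScalars Γ(P, ⊤)).toLinearMap ∘ₗ H8Props.PullSections.pullLin g' F le_top
  have hφ : IsBaseChange Γ(X', ⊤) φ :=
    (H8Props.PullSections.isBaseChange_pullLin g' F le_top hqc hU hW').comp
      (IsBaseChange.ofEquiv (secEquiv e.symm (⊤ : X'.Opens)))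
  have hGqc : Coh.IsQCoh G := (H29Fitt.isQCoh_of_isFP G (H16Derived.KFlat.Stalk.isFP_of_iso e.symm
    (H06EGA9.isFP_pullback g' hF)))
  have hGfp : CohB1.IsFP G := H16Derived.KFlat.Stalk.isFP_of_iso e.symm (H06EGA9.isFP_pullback g' hF)
  haveI : LocallyOfFiniteType f' := inferInstance
  haveI : CompactSpace W := isCompact_iff_compactSpace.mp hWc
  haveI : QuasiCompact (W.ι ≫ f') := (quasiCompact_iff_compactSpace _).2 inferInstance
  haveI : QuasiCompact f' := (quasiCompact_iff_compactSpace _).2 inferInstance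
  have hE : IsConstructible {y : T | ∀ x ∈ MoreMor.relAss f' G, f' x = y → x ∈ W} :=
    Topology.IsLocallyConstructible.isConstructible (Groth.Agent.S1370.result f' G hGqc hGfp W)
  obtain ⟨g, hg, hgE⟩ := exists_basicOpen_subset hE t fun s hs x hx hxs => by
    let τ := hV.primeIdealOf ⟨t, trivial⟩
    let σ := hV.primeIdealOf ⟨f' x, trivial⟩
    let Q := hW'.primeIdealOf ⟨x, trivial⟩
    have hQ : FlatCA.fiberIdeal σ.asIdeal Q.asIdeal ∈
        associatedPrimes (σ.asIdeal.Fiber Γ(X', ⊤)) (FlatCA.fiberMod σ.asIdeal Γ(X', ⊤) Γ(G, (⊤ : X'.Opens))) :=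
      (H7Flat.Chain.RelAss.mem_relAss_iff f' G hGqc hV hW' le_top ⟨x, trivial⟩ rfl).1 hx
    have hle : σ.asIdeal ≤ τ.asIdeal := by
      refine (PrimeSpectrum.le_iff_specializes σ τ).2 ?_
      refine hV.fromSpec.isOpenEmbedding.isInducing.specializes_iff.1 ?_
      rw [hV.fromSpec_primeIdealOf, hV.fromSpec_primeIdealOf]
      exact hxs ▸ (PrimeSpectrum.le_iff_specializes s t).1 hs
    haveI : τ.asIdeal.LiesOver (τ.asIdeal.under A) := ⟨rfl⟩
    have hpT : FlatCA.IsPureAlong Γ(T, ⊤) Γ(X', ⊤) Γ(G, (⊤ : X'.Opens)) τ.asIdeal :=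
      Groth.Agent.S1226.result Γ(F, (⊤ : P.Opens)) (τ.asIdeal.under A) Γ(T, ⊤) Γ(X', ⊤)
        Γ(G, (⊤ : X'.Opens)) φ hφ τ.asIdeal (hpure _)
    haveI hQσ : Q.asIdeal.LiesOver σ.asIdeal := ⟨(congrArg PrimeSpectrum.asIdeal
      (IsAffineOpen.comap_primeIdealOf_appLE (f := f') ⊤ hV ⊤ hW' le_top (x := x) trivial)).symm⟩
    have hid : IsBaseChange Γ(X', ⊤) (LinearMap.id : Γ(G, (⊤ : X'.Opens)) →ₗ[Γ(X', ⊤)] _) :=
      IsBaseChange.ofEquiv (LinearEquiv.refl _ _)
    obtain ⟨Q', hQ', hQle, hQover⟩ : ∃ Q' : Ideal Γ(X', ⊤), Q'.IsPrime ∧ Q.asIdeal ≤ Q' ∧ Q'.LiesOver τ.asIdeal := by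
      by_contra hne
      refine hpT Γ(T, ⊤) Γ(X', ⊤) Γ(G, (⊤ : X'.Opens)) LinearMap.id σ.asIdeal τ.asIdeal Q.asIdeal
        (isEtaleNhd_self _ _) ⟨inferInstance, hid, hle, ⟨by rw [Ideal.under_def, Algebra.algebraMap_self, Ideal.comap_id]⟩,
          hQσ, hQ, fun Q' hQ' h1 h2 => hne ⟨Q', hQ', h1, h2⟩⟩
    let x' : X' := hW'.fromSpec ⟨Q', hQ'⟩
    have hxx' : x ⤳ x' := by
      have h2 := ((PrimeSpectrum.le_iff_specializes Q ⟨Q', hQ'⟩).1 hQle).map hW'.fromSpec.continuous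
      rwa [hW'.fromSpec_primeIdealOf] at h2
    have hx't : f' x' = t := by
      show f' (hW'.fromSpec _) = t
      rw [← Scheme.Hom.comp_apply, ← IsAffineOpen.SpecMap_appLE_fromSpec f' hV hW' le_top, Scheme.Hom.comp_apply]
      refine Eq.trans (congrArg (fun v => hV.fromSpec v) (PrimeSpectrum.ext ?_)) (hV.fromSpec_primeIdealOf ⟨t, trivial⟩)
      exact hQover.over.symm
    refine (hxx'.mem_open W.2 (hW x' hx't ?_))
    exact hxx'.mem_closed (H10Coh.isClosed_support G (H29Fitt.isFT_of_isFP G hGfp))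
      (subset_support_relAss f' G hx)
  exact ⟨g, hg, fun x hx hxg => hgE _ hxg x hx rfl⟩

end Groth.Agent.H8Norm.FlatMono
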