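import Groth.Agent.H8Norm.FlatMono.Main
import Groth.Agent.H8Norm.FlatMono.Pure
import Groth.Agent.H06EGA9.FlatModel

/-!
# The representing monomorphism for affine pure modules, in ring form
-/

set_option autoImplicit false
set_option linter.style.haveILetI false
set_option backward.isDefEq.respectTransparency false
set_option maxHeartbeats 1000000
set_option synthInstance.maxHeartbeats 400000

universe u

open CategoryTheory CategoryTheory.Limits AlgebraicGeometry TensorProduct

namespace Groth.Agent.H8Norm.FlatMono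

open H8Props.FunDescent FlatPointScheme H06Mod

/-- Flatness in dimensions at least `n` does not depend on the model. -/
theorem flatInDimGE_iff_of_bijective {A A₀ B B₀ : Type u} [CommRing A] [CommRing A₀] [CommRing B] [CommRing B₀]
    [Algebra A B] [Algebra A₀ B₀] [Algebra A A₀] [Algebra B B₀] [Algebra A B₀]
    [IsScalarTower A B B₀] [IsScalarTower A A₀ B₀] (hA : Function.Bijective (algebraMap A A₀))
    (hB : Function.Bijective (algebraMap B B₀)) [Algebra.FiniteType A B]
    {N N₀ : Type u} [AddCommGroup N] [Module B N] [Module A N] [IsScalarTower A B N]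
    [AddCommGroup N₀] [Module B₀ N₀] [Module A₀ N₀] [IsScalarTower A₀ B₀ N₀] [Module B N₀]
    [IsScalarTower B B₀ N₀] (ψ : N →ₗ[B] N₀) (hψ : Function.Bijective ψ) (n : ℕ) :
    FlatCA.FlatInDimGE n A₀ B₀ N₀ ↔ FlatCA.FlatInDimGE n A B N := by
  letI : Module A N₀ := Module.compHom N₀ (algebraMap A A₀)
  haveI : IsScalarTower A A₀ N₀ := .of_algebraMap_smul fun _ _ => rfl
  haveI : IsScalarTower A B N₀ := .of_algebraMap_smul fun a m => by
    rw [← algebraMap_smul B₀ (algebraMap A B a) m, ← IsScalarTower.algebraMap_apply,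
      IsScalarTower.algebraMap_apply A A₀ B₀, algebraMap_smul]
    rfl
  haveI : IsScalarTower A B₀ N₀ := .of_algebraMap_smul fun a m => by
    rw [IsScalarTower.algebraMap_apply A A₀ B₀, algebraMap_smul]
    rfl
  let ρA := CommRingCat.ofHom (algebraMap A A₀)
  let ρB := CommRingCat.ofHom (algebraMap B B₀)
  haveI : IsIso (Spec.map ρA) := by
    haveI : IsIso ρA := (ConcreteCategory.isIso_iff_bijective _).2 hA
    infer_instance
  haveI : IsIso (Spec.map ρB) := by
    haveI : IsIso ρB := (ConcreteCategory.isIso_iff_bijective _).2 hB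
    infer_instance
  haveI : LocallyOfFiniteType (Spec.map (CommRingCat.ofHom (algebraMap A B))) :=
    (HasRingHomProperty.Spec_iff (P := @LocallyOfFiniteType)).2 (RingHom.finiteType_algebraMap.2 ‹_›)
  have hw : Spec.map ρB ≫ Spec.map (CommRingCat.ofHom (algebraMap A B)) =
      Spec.map (CommRingCat.ofHom (algebraMap A₀ B₀)) ≫ Spec.map ρA := by
    rw [← Spec.map_comp, ← Spec.map_comp]
    congr 1
    exact CommRingCat.hom_ext ((IsScalarTower.algebraMap_eq A B B₀).symm.trans (IsScalarTower.algebraMap_eq A A₀ B₀))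
  rw [FdRing.flatInDimGE_iff, FdRing.flatInDimGE_iff]
  have htr : ∀ (Q₀ : Ideal B₀) [Q₀.IsPrime],
      FdRing.ptr A₀ Q₀ = FdRing.ptr A (Q₀.comap (algebraMap B B₀)) := fun Q₀ _ => by
    rw [FdRing.ptr_eq_pointTrdeg, FdRing.ptr_eq_pointTrdeg]
    exact pointTrdeg_eq_of_iso hw _
  have hfl : ∀ (Q₀ : Ideal B₀) [Q₀.IsPrime],
      FlatCA.FlatAt A₀ Q₀ N₀ ↔ FlatCA.FlatAt A (Q₀.comap (algebraMap B B₀)) N := fun Q₀ _ => by
    let M := (Q₀.comap (algebraMap B B₀)).primeCompl
    let L := LocalizedModule Q₀.primeCompl N₀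
    let l : N →ₗ[B] L := ((LocalizedModule.mkLinearMap Q₀.primeCompl N₀).restrictScalars B) ∘ₗ ψ
    have key : ∀ (b : B) (z : L), algebraMap B B₀ b • z = b • z := fun b z => algebraMap_smul B₀ b z
    have hl : IsLocalizedModule M l := by
      refine ⟨fun m => ?_, fun z => ?_, fun {x₁ x₂} h => ?_⟩
      · have h1 := IsLocalizedModule.map_units (LocalizedModule.mkLinearMap Q₀.primeCompl N₀)
          (⟨algebraMap B B₀ m, m.2⟩ : Q₀.primeCompl)
        rw [Module.End.isUnit_iff] at h1 ⊢
        convert h1 using 1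
        funext z
        exact (key m z).symm
      · obtain ⟨⟨y, s⟩, hs⟩ := IsLocalizedModule.surj Q₀.primeCompl (LocalizedModule.mkLinearMap Q₀.primeCompl N₀) z
        obtain ⟨x, rfl⟩ := hψ.2 y
        obtain ⟨b, hb⟩ := hB.2 (s : B₀)
        refine ⟨(x, ⟨b, fun hbQ => s.2 (hb ▸ hbQ)⟩), ?_⟩
        show b • z = l x
        rw [← key, hb]
        exact hs
      · obtain ⟨s, hs⟩ := IsLocalizedModule.exists_of_eq (S := Q₀.primeCompl)
          (f := LocalizedModule.mkLinearMap Q₀.primeCompl N₀) h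
        obtain ⟨b, hb⟩ := hB.2 (s : B₀)
        refine ⟨⟨b, fun hbQ => s.2 (hb ▸ hbQ)⟩, hψ.1 ?_⟩
        show ψ (b • x₁) = ψ (b • x₂)
        rw [map_smul, map_smul, ← algebraMap_smul B₀ b, ← algebraMap_smul B₀ b (ψ x₂), hb]
        exact hs
    haveI : IsScalarTower A A₀ L := .of_algebraMap_smul fun a z => by
      induction z using LocalizedModule.induction_on with
      | _ m r => rw [LocalizedModule.smul'_mk, LocalizedModule.smul'_mk]; rfl
    haveI : IsLocalization (⊥ : Submonoid A) A₀ :=
      { map_units := fun y => by rw [Submonoid.mem_bot.1 y.2, map_one]; exact isUnit_one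
        surj := fun z => by
          obtain ⟨a, rfl⟩ := hA.2 z
          exact ⟨(a, 1), by simp⟩
        exists_of_eq := fun {a b} hab => ⟨1, by rw [hA.1 hab]⟩ }
    show Module.Flat A₀ L ↔ Module.Flat A (LocalizedModule M N)
    rw [Module.flat_iff_of_isLocalization A₀ (⊥ : Submonoid A) L]
    exact Module.Flat.equiv_iff ((IsLocalizedModule.iso M l).restrictScalars A).symm
  constructor
  · intro h Q _ hn
    obtain ⟨Q₀, hQ₀, rfl⟩ : ∃ Q₀ : Ideal B₀, Q₀.IsPrime ∧ Q₀.comap (algebraMap B B₀) = Q :=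
      ⟨Q.map (algebraMap B B₀), Ideal.map_isPrime_of_surjective hB.2
        (by rw [(RingHom.injective_iff_ker_eq_bot _).1 hB.1]; exact bot_le),
        Ideal.comap_map_of_bijective _ hB⟩
    exact (hfl Q₀).1 (h Q₀ (by rwa [htr Q₀]))
  · intro h Q₀ _ hn
    exact (hfl Q₀).2 (h _ (by rwa [← htr Q₀]))

section Tilde

variable {B : Type u} [CommRing B] (N : Type u) [AddCommGroup N] [Module B N]

/-- The sheaf of a module. -/
noncomputable abbrev tildeMod : (Spec (CommRingCat.of B)).Modules :=
  tilde (R := CommRingCat.of B) (ModuleCat.of B N)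

theorem bijective_toOpen :
    Function.Bijective (tilde.toOpen (R := CommRingCat.of B) (ModuleCat.of B N) ⊤).hom := by
  haveI := tilde.isIso_toOpen_top (M := ModuleCat.of B N) (R := CommRingCat.of B)
  exact (ConcreteCategory.isIso_iff_bijective _).1 inferInstance

theorem secHom_specMap {R R' : CommRingCat.{u}} (φ : R ⟶ R') :
    secHom (Spec.map φ) (⊤ : (Spec R').Opens) = φ ≫ (Scheme.ΓSpecIso R').inv := by
  simp [secHom, Scheme.Hom.appLE]

/-- The global functions as an algebra. -/
@[reducible] noncomputable def secAlg (B : Type u) [CommRing B] : Algebra B Γ(Spec (CommRingCat.of B), ⊤) :=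
  (Scheme.ΓSpecIso (CommRingCat.of B)).inv.hom.toAlgebra

/-- The global sections as a module. -/
@[reducible] noncomputable def secMod : Module B Γ(tildeMod N, (⊤ : (Spec (CommRingCat.of B)).Opens)) :=
  Module.compHom Γ(tildeMod N, (⊤ : (Spec (CommRingCat.of B)).Opens))
    (Scheme.ΓSpecIso (CommRingCat.of B)).inv.hom

attribute [local instance] secAlg secMod

/-- Sections of the sheaf of a module. -/
noncomputable def toSec : N →ₗ[B] Γ(tildeMod N, (⊤ : (Spec (CommRingCat.of B)).Opens)) where
  toFun := fun x => (tilde.toOpen (R := CommRingCat.of B) (ModuleCat.of B N) ⊤).hom x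
  map_add' := map_add _
  map_smul' := fun b x => (tilde.toOpen (R := CommRingCat.of B) (ModuleCat.of B N) ⊤).hom.map_smul b x

theorem bijective_toSec : Function.Bijective (toSec (B := B) N) := bijective_toOpen N

end Tilde

variable {A B : Type u} [CommRing A] [CommRing B] [Algebra A B] [Algebra.FinitePresentation A B]
  (N : Type u) [AddCommGroup N] [Module B N] [Module A N] [IsScalarTower A B N]
  [Module.FinitePresentation B N]

theorem dimP_id_iff {X S : Scheme.{u}} (f : X ⟶ S) [LocallyOfFiniteType f] (G : X.Modules) (n : ℕ) :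
    dimP f G n S (𝟙 S) ↔ FlatFun.DimFibresLT n f {x | ¬ FlatMod.IsFlatOverAt f G x} := by
  let p₁ := pullback.fst f (𝟙 S)
  have hw1 : pullback.snd f (𝟙 S) = p₁ ≫ f := by rw [pullback.condition, Category.comp_id]
  have hfl : ∀ x', FlatMod.IsFlatOverAt (pullback.snd f (𝟙 S)) ((Scheme.Modules.pullback p₁).obj G) x' ↔
      FlatMod.IsFlatOverAt f G (p₁ x') := fun x' =>
    (isFlatOverAt_congr hw1 _ x').trans (isFlatOverAt_pullback_iff p₁ f G x')
  have htr : ∀ x', pointTrdeg (pullback.snd f (𝟙 S)) x' = pointTrdeg f (p₁ x') := fun x' =>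
    pointTrdeg_eq_of_iso (g := 𝟙 _) (by rw [Category.comp_id, hw1]) x'
  constructor
  · intro h y hy
    obtain ⟨x', rfl⟩ : ∃ x', p₁ x' = y :=
      ⟨(asIso p₁).inv y, by rw [← Scheme.Hom.comp_apply]; simp⟩
    exact (htr x').symm.trans_lt (h x' fun H => hy ((hfl x').1 H))
  · intro h x' hx'
    exact (htr x').trans_lt (h (p₁ x') fun H => hx' ((hfl x').2 H))

theorem exists_rep_of_pure (hpure : FlatCA.IsPure A B N) (n : ℕ) :
    ∃ (Z : Scheme.{u}) (i : Z ⟶ Spec (CommRingCat.of A)),
      Mono i ∧ LocallyOfFinitePresentation i ∧ QuasiCompact i ∧ QuasiSeparated i ∧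
      ∀ (A' B' N' : Type u) [CommRing A'] [CommRing B'] [Algebra A A'] [Algebra B B'] [Algebra A' B'] [Algebra A B']
        [IsScalarTower A B B'] [IsScalarTower A A' B'] [Algebra.IsPushout A B A' B']
        [AddCommGroup N'] [Module B' N'] [Module B N'] [IsScalarTower B B' N'] [Module A' N'] [IsScalarTower A' B' N']
        (φ : N →ₗ[B] N'), IsBaseChange B' φ →
        (FlatCA.FlatInDimGE n A' B' N' ↔
          ∃ g : Spec (CommRingCat.of A') ⟶ Z, g ≫ i = Spec.map (CommRingCat.ofHom (algebraMap A A'))) := by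
  let f : Spec (CommRingCat.of B) ⟶ Spec (CommRingCat.of A) := Spec.map (CommRingCat.ofHom (algebraMap A B))
  haveI : LocallyOfFinitePresentation f :=
    (HasRingHomProperty.Spec_iff (P := @LocallyOfFinitePresentation)).2 (RingHom.finitePresentation_algebraMap.2 ‹_›)
  haveI : Module.FinitePresentation (CommRingCat.of B) (ModuleCat.of B N) := ‹Module.FinitePresentation B N›
  let F := tildeMod (B := B) N
  have hF : CohB1.IsFP F := H06EGA9.isFP_tilde (R := CommRingCat.of B) (ModuleCat.of B N)
  have hgood : Good f F := by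
    refine good_of_pure f F hF ?_
    intro p hp
    let B₀ : Type u := Γ(Spec (CommRingCat.of B), ⊤)
    letI : Algebra B B₀ := secAlg B
    letI : Algebra A B₀ := (secHom f ⊤).hom.toAlgebra
    letI : Module B Γ(F, (⊤ : (Spec (CommRingCat.of B)).Opens)) := secMod N
    haveI : IsScalarTower B B₀ Γ(F, (⊤ : (Spec (CommRingCat.of B)).Opens)) := .of_algebraMap_smul fun _ _ => rfl
    haveI : IsScalarTower A B B₀ := IsScalarTower.of_algebraMap_eq' (by
      show (secHom f ⊤).hom = _
      rw [secHom_specMap]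
      rfl)
    have hbij : Function.Bijective (algebraMap B B₀) :=
      (Scheme.ΓSpecIso (CommRingCat.of B)).commRingCatIsoToRingEquiv.symm.bijective
    let eB : B ≃ₐ[A] B₀ := AlgEquiv.ofBijective (IsScalarTower.toAlgHom A B B₀) hbij
    haveI : Algebra.IsPushout A B A B₀ := ⟨IsBaseChange.of_equiv
      ((AlgebraTensorModule.rid A B B) ≪≫ₗ LinearEquiv.ofBijective (Algebra.linearMap B B₀) hbij) fun x => by
        simp only [LinearEquiv.trans_apply, AlgebraTensorModule.rid_tmul]
        show algebraMap B B₀ (x • 1) = algebraMap A B₀ x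
        rw [Algebra.smul_def, mul_one, ← IsScalarTower.algebraMap_apply]⟩
    haveI : p.LiesOver p := ⟨by rw [Ideal.under_def, Algebra.algebraMap_self, Ideal.comap_id]⟩
    let eN : B₀ ⊗[B] N ≃ₗ[B₀] Γ(F, (⊤ : (Spec (CommRingCat.of B)).Opens)) :=
      LinearEquiv.ofBijective (LinearMap.liftBaseChange B₀ (toSec (B := B) N)) (by
        have h1 : Function.Bijective (LinearMap.liftBaseChange B₀ (toSec (B := B) N) ∘ fun m => (1 : B₀) ⊗ₜ[B] m) := by
          have : (LinearMap.liftBaseChange B₀ (toSec (B := B) N) ∘ fun m => (1 : B₀) ⊗ₜ[B] m) = toSec (B := B) N := by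
            funext m; simp
          rw [this]; exact bijective_toSec (B := B) N
        refine (Function.Bijective.of_comp_iff _ (⟨fun a b h => ?_, fun z => ?_⟩ :
          Function.Bijective fun m : N => (1 : B₀) ⊗ₜ[B] m)).1 h1
        · exact h1.1 (congrArg (LinearMap.liftBaseChange B₀ (toSec (B := B) N)) h)
        · induction z with
          | zero => exact ⟨0, TensorProduct.tmul_zero _ _⟩
          | tmul a m =>
            obtain ⟨b, rfl⟩ := hbij.2 a
            exact ⟨b • m, by show (1 : B₀) ⊗ₜ[B] (b • m) = _; rw [TensorProduct.tmul_smul, TensorProduct.smul_tmul', Algebra.smul_def, mul_one]⟩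
          | add x y hx hy =>
            obtain ⟨a, ha⟩ := hx
            obtain ⟨b, hb⟩ := hy
            exact ⟨a + b, by simp only [] at ha hb ⊢; rw [TensorProduct.tmul_add, ha, hb]⟩)
    exact Groth.Agent.S1226.result N p A B₀ Γ(F, (⊤ : (Spec (CommRingCat.of B)).Opens)) (toSec (B := B) N)
      (IsBaseChange.of_equiv eN fun m => by
        show (LinearMap.liftBaseChange B₀ (toSec (B := B) N)) (1 ⊗ₜ[B] m) = _
        simp
        rfl) p (hpure p)
  obtain ⟨Z, i, hZ⟩ := isRep_dimP f F hF hgood n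
  haveI := hZ.mono
  refine ⟨Z, i, hZ.mono, hZ.lfp, hZ.qc, inferInstance, fun A' B' N' _ _ _ _ _ _ _ _ _ _ _ _ _ _ _ φ hφ => ?_⟩
  let t : Spec (CommRingCat.of A') ⟶ Spec (CommRingCat.of A) := Spec.map (CommRingCat.ofHom (algebraMap A A'))
  let f' : Spec (CommRingCat.of B') ⟶ Spec (CommRingCat.of A') := Spec.map (CommRingCat.ofHom (algebraMap A' B'))
  let g' : Spec (CommRingCat.of B') ⟶ Spec (CommRingCat.of B) := Spec.map (CommRingCat.ofHom (algebraMap B B'))
  have hc : IsPullback g' f' f t :=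
    isPullback_SpecMap_of_isPushout _ _ _ _ (CommRingCat.isPushout_of_isPushout A B A' B')
  haveI : LocallyOfFinitePresentation f' := MorphismProperty.of_isPullback hc ‹_›
  haveI : Algebra.FiniteType A' B' :=
    RingHom.finiteType_algebraMap.1 ((HasRingHomProperty.Spec_iff (P := @LocallyOfFiniteType)
      (φ := CommRingCat.ofHom (algebraMap A' B'))).1 (show LocallyOfFiniteType f' from inferInstance))
  let eG : (Scheme.Modules.pullback g').obj F ≅ tildeMod N' :=
    H06EGA9.pullbackTildeOfEquiv (algebraMap B B') N N' (by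
      convert hφ.equiv using 0
      congr!
      all_goals exact Algebra.algebra_ext _ _ fun _ => rfl)
  refine Iff.trans ?_ (hZ.iff _ t)
  rw [show t = 𝟙 _ ≫ t from (Category.id_comp t).symm, ← dimP_baseChange f F hc,
    dimP_congr_iso f' _ eG, dimP_id_iff]
  have hqc : Coh.IsQCoh (tildeMod N') :=
    (inferInstance : (tilde (R := CommRingCat.of B') (ModuleCat.of B' N')).IsQuasicoherent)
  refine Iff.trans ?_ (dimFlat_iff f' (tildeMod N') hqc n)
  letI := (f'.appLE ⊤ ⊤ le_top).hom.toAlgebra
  letI := Module.compHom Γ(tildeMod N', (⊤ : (Spec (CommRingCat.of B')).Opens)) (f'.appLE ⊤ ⊤ le_top).hom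
  haveI : IsScalarTower Γ(Spec (CommRingCat.of A'), ⊤) Γ(Spec (CommRingCat.of B'), ⊤)
      Γ(tildeMod N', (⊤ : (Spec (CommRingCat.of B')).Opens)) := .of_algebraMap_smul fun _ _ => rfl
  letI : Algebra A' Γ(Spec (CommRingCat.of A'), ⊤) := (Scheme.ΓSpecIso (CommRingCat.of A')).inv.hom.toAlgebra
  letI : Algebra B' Γ(Spec (CommRingCat.of B'), ⊤) := secAlg B'
  letI : Algebra A' Γ(Spec (CommRingCat.of B'), ⊤) := (secHom f' ⊤).hom.toAlgebra
  letI : Module B' Γ(tildeMod N', (⊤ : (Spec (CommRingCat.of B')).Opens)) := secMod N'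
  haveI : IsScalarTower B' Γ(Spec (CommRingCat.of B'), ⊤)
      Γ(tildeMod N', (⊤ : (Spec (CommRingCat.of B')).Opens)) := .of_algebraMap_smul fun _ _ => rfl
  haveI : IsScalarTower A' B' Γ(Spec (CommRingCat.of B'), ⊤) := IsScalarTower.of_algebraMap_eq' (by
    show (secHom f' ⊤).hom = _
    rw [secHom_specMap]
    rfl)
  haveI : IsScalarTower A' Γ(Spec (CommRingCat.of A'), ⊤) Γ(Spec (CommRingCat.of B'), ⊤) :=
    IsScalarTower.of_algebraMap_eq' rfl
  exact (flatInDimGE_iff_of_bijective
    (Scheme.ΓSpecIso (CommRingCat.of A')).commRingCatIsoToRingEquiv.symm.bijective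
    (Scheme.ΓSpecIso (CommRingCat.of B')).commRingCatIsoToRingEquiv.symm.bijective
    (toSec (B := B') N') (bijective_toSec (B := B') N') n).symm

end Groth.Agent.H8Norm.FlatMono
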