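import Groth.Agent.H8Norm.FlatMono.Glue
import Groth.Agent.H8Norm.FlatPointScheme
import Groth.Agent.H8Norm.FdRing.Main
import Groth.Agent.H8Props.FunDescent.DimFun
import Groth.Agent.H8Props.FunDescent.EtalePull
import Groth.Agent.H8Props.FunDescent.DimLimit
import Groth.Agent.H06EGA9.FlatConstructible

/-!
# The functor `F_d` of an affine piece with a complete dévissage
-/

set_option autoImplicit false
set_option linter.style.haveILetI false
set_option backward.isDefEq.respectTransparency false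
set_option maxHeartbeats 1000000
set_option synthInstance.maxHeartbeats 400000

universe u

open CategoryTheory CategoryTheory.Limits AlgebraicGeometry

namespace Groth.Agent.H8Norm.FlatMono

open H8Props.FunDescent FlatPointScheme H06Mod

/-- The condition of flatness in dimensions at least `d` on schemes over the base. -/
def dimP {X S : Scheme.{u}} (f : X ⟶ S) (F : X.Modules) (d : ℕ) : Cond S :=
  fun _ t => DimCond f F d (Over.mk t)

theorem isLocalCond_dimP {X S : Scheme.{u}} (f : X ⟶ S) [LocallyOfFiniteType f] (F : X.Modules) (d : ℕ) :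
    IsLocalCond (dimP f F d) where
  comp g t h := stable_dimCond f F d (Over.homMk g : Over.mk (g ≫ t) ⟶ Over.mk t) h
  local' t ι U g hf hs h := dimCond_of_cover f F d (Over.mk t) (ι := ULift.{u + 1} ι)
    (fun i => Over.mk (g i.down ≫ t)) (fun i => Over.homMk (g i.down))
    (fun i => hf i.down) (fun x => (hs x).elim fun i hi => ⟨⟨i⟩, hi⟩) fun i => h i.down

theorem pointTrdeg_eq_of_iso {X' Y' X Y : Scheme.{u}} {g' : X' ⟶ X} {f' : X' ⟶ Y'} {f : X ⟶ Y}
    {g : Y' ⟶ Y} [IsIso g] [IsIso g'] [LocallyOfFiniteType f] (w : g' ≫ f = f' ≫ g) (x : X') :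
    pointTrdeg f' x = pointTrdeg f (g' x) := by
  have hc : IsPullback g' f' f g := IsPullback.of_horiz_isIso ⟨w⟩
  haveI : LocallyOfFiniteType f' := MorphismProperty.of_isPullback hc ‹_›
  refine le_antisymm (pointTrdeg_le hc x) ?_
  have h := pointTrdeg_le (IsPullback.of_horiz_isIso (show CommSq (inv g') f f' (inv g) from ⟨by
    rw [IsIso.inv_comp_eq, ← Category.assoc, w, Category.assoc, IsIso.hom_inv_id, Category.comp_id]⟩)) (g' x)
  rw [← Scheme.Hom.comp_apply, IsIso.hom_inv_id] at h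
  exact h

/-- The condition on a morphism of affine schemes in ring form. -/
theorem dimFlat_iff {P T : Scheme.{u}} [IsAffine P] [IsAffine T] (q : P ⟶ T) [LocallyOfFiniteType q]
    (G : P.Modules) (hG : Coh.IsQCoh G) (n : ℕ) :
    letI := (q.appLE ⊤ ⊤ le_top).hom.toAlgebra
    letI := Module.compHom Γ(G, (⊤ : P.Opens)) (q.appLE ⊤ ⊤ le_top).hom
    haveI : IsScalarTower Γ(T, ⊤) Γ(P, ⊤) Γ(G, (⊤ : P.Opens)) := .of_algebraMap_smul fun _ _ => rfl
    FlatCA.FlatInDimGE n Γ(T, ⊤) Γ(P, ⊤) Γ(G, (⊤ : P.Opens)) ↔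
      FlatFun.DimFibresLT n q {x | ¬ FlatMod.IsFlatOverAt q G x} := by
  letI := (q.appLE ⊤ ⊤ le_top).hom.toAlgebra
  letI := Module.compHom Γ(G, (⊤ : P.Opens)) (q.appLE ⊤ ⊤ le_top).hom
  haveI : IsScalarTower Γ(T, ⊤) Γ(P, ⊤) Γ(G, (⊤ : P.Opens)) := .of_algebraMap_smul fun _ _ => rfl
  have hU := isAffineOpen_top P
  have hV := isAffineOpen_top T
  haveI : IsIso hU.fromSpec := by rw [IsAffineOpen.fromSpec_top]; infer_instance
  haveI : IsIso hV.fromSpec := by rw [IsAffineOpen.fromSpec_top]; infer_instance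
  have hw : hU.fromSpec ≫ q = Spec.map (q.appLE ⊤ ⊤ le_top) ≫ hV.fromSpec :=
    (IsAffineOpen.SpecMap_appLE_fromSpec q hV hU le_top).symm
  have htr : ∀ x : P, FdRing.ptr Γ(T, ⊤) (hU.primeIdealOf ⟨x, trivial⟩).asIdeal = pointTrdeg q x := by
    intro x
    rw [FdRing.ptr_eq_pointTrdeg]
    refine (pointTrdeg_eq_of_iso hw (hU.primeIdealOf ⟨x, trivial⟩)).trans ?_
    rw [hU.fromSpec_primeIdealOf]
  have hfl : ∀ x : P, FlatMod.IsFlatOverAt q G x ↔
      FlatCA.FlatAt Γ(T, ⊤) (hU.primeIdealOf ⟨x, trivial⟩).asIdeal Γ(G, (⊤ : P.Opens)) := fun x =>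
    H8Props.FlatLocus.isFlatOverAt_iff_localizedModule q G hG hV hU le_top ⟨x, trivial⟩
  rw [FdRing.flatInDimGE_iff]
  constructor
  · intro h x hx
    show pointTrdeg q x < _
    by_contra hlt
    exact hx ((hfl x).2 (h _ ((htr x).symm ▸ not_lt.1 hlt)))
  · intro h Q hQ hn
    by_contra hf
    have hx : hU.primeIdealOf ⟨hU.fromSpec ⟨Q, hQ⟩, trivial⟩ = ⟨Q, hQ⟩ :=
      hU.fromSpec.isOpenEmbedding.injective (hU.fromSpec_primeIdealOf _)
    obtain ⟨x, hx'⟩ : ∃ x : P, (hU.primeIdealOf ⟨x, trivial⟩).asIdeal = Q :=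
      ⟨_, congrArg PrimeSpectrum.asIdeal hx⟩
    subst hx'
    refine not_lt.2 hn ((htr x).trans_lt (h x fun H => hf ((hfl x).1 H)))

theorem isoSpec_secHom {A : Type u} [CommRing A] {T : Scheme.{u}} [IsAffine T]
    (t : T ⟶ Spec (CommRingCat.of A)) :
    T.isoSpec.hom ≫ Spec.map (secHom t ⊤) = t := by
  rw [secHom, Spec.map_comp, show t.appLE ⊤ ⊤ le_top = t.appTop by simp [Scheme.Hom.appLE],
    ← Category.assoc, Scheme.isoSpec_hom_naturality, Category.assoc, ← Scheme.isoSpec_Spec_inv,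
    Iso.hom_inv_id, Category.comp_id]

variable {A : Type u} [CommRing A] {P : Scheme.{u}} [IsAffine P] (f : P ⟶ Spec (CommRingCat.of A))
  [LocallyOfFinitePresentation f] (G : P.Modules) (hG : CohB1.IsFP G)

include hG in
set_option maxHeartbeats 4000000 in
/-- Near a prime with a complete dévissage `F_d` is representable. -/
theorem exists_piece (s : Ideal A) [s.IsPrime] (d : ℕ) (h1 : dimP f G (d + 1) _ (𝟙 _))
    (hD : letI := (secHom f ⊤).hom.toAlgebra
      ∃ D : FlatCA.CompleteDevissage A Γ(P, ⊤) Γ(G, (⊤ : P.Opens)) s,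
        ∀ i, i < D.n → ∃ e : ℕ, FlatCA.SmoothRelDim e A (D.B i)) :
    ∃ g : A, g ∉ s ∧ IsRep ((dimP f G d).pull
      (Scheme.Opens.ι (X := Spec (CommRingCat.of A)) (PrimeSpectrum.basicOpen g))) := by
  letI := (secHom f ⊤).hom.toAlgebra
  obtain ⟨D, hdim⟩ := hD
  have hqc : Coh.IsQCoh G := H29Fitt.isQCoh_of_isFP G hG
  have hS : IsAffineOpen (⊤ : (Spec (CommRingCat.of A)).Opens) := isAffineOpen_top _
  haveI : Algebra.FinitePresentation A Γ(P, ⊤) := by
    have h0 : RingHom.FinitePresentation (f.appLE ⊤ ⊤ le_top).hom :=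
      HasRingHomProperty.appLE @LocallyOfFinitePresentation f ‹_› ⟨⊤, hS⟩ ⟨⊤, isAffineOpen_top P⟩ le_top
    exact h0.comp (RingHom.FinitePresentation.of_bijective
      (Scheme.ΓSpecIso (CommRingCat.of A)).commRingCatIsoToRingEquiv.symm.bijective)
  haveI : Module.FinitePresentation Γ(P, ⊤) Γ(G, (⊤ : P.Opens)) :=
    H8Props.FinLocFree.finitePresentation_sections G hG (isAffineOpen_top P)
  letI : Module A Γ(G, (⊤ : P.Opens)) := Module.compHom _ (secHom f ⊤).hom
  haveI : IsScalarTower A Γ(P, ⊤) Γ(G, (⊤ : P.Opens)) := .of_algebraMap_smul fun _ _ => rfl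
  -- the condition in ring form
  have key : ∀ (T : Scheme.{u}) [IsAffine T] (t : T ⟶ Spec (CommRingCat.of A)),
      ∀ n : ℕ, ∃ (B' N' : Type u) (_ : CommRing B') (_ : Algebra Γ(P, ⊤) B') (_ : Algebra Γ(T, ⊤) B')
        (_ : Algebra A B'),
        letI := (secHom t ⊤).hom.toAlgebra
        ∃ (_ : IsScalarTower A Γ(P, ⊤) B') (_ : IsScalarTower A Γ(T, ⊤) B')
          (_ : Algebra.IsPushout A Γ(P, ⊤) Γ(T, ⊤) B') (_ : AddCommGroup N') (_ : Module B' N')
          (_ : Module Γ(P, ⊤) N') (_ : IsScalarTower Γ(P, ⊤) B' N') (_ : Module Γ(T, ⊤) N')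
          (_ : IsScalarTower Γ(T, ⊤) B' N') (φ : Γ(G, (⊤ : P.Opens)) →ₗ[Γ(P, ⊤)] N'),
          IsBaseChange B' φ ∧ (FlatCA.FlatInDimGE n Γ(T, ⊤) B' N' ↔ dimP f G n T t) := by
    intro T _ t n
    let p₁ := pullback.fst f t
    let p₂ := pullback.snd f t
    have hc : IsPullback p₁ p₂ f t := IsPullback.of_hasPullback f t
    have hU : IsAffineOpen (⊤ : P.Opens) := isAffineOpen_top P
    have hV : IsAffineOpen (⊤ : T.Opens) := isAffineOpen_top T
    haveI : IsAffine (pullback f t) := inferInstance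
    have hW : IsAffineOpen (⊤ : (pullback f t).Opens) := isAffineOpen_top _
    have e0 : (⊤ : (pullback f t).Opens) = p₁ ⁻¹ᵁ ⊤ ⊓ p₂ ⁻¹ᵁ ⊤ := by simp
    have hp0 : CategoryTheory.IsPushout (f.appLE ⊤ ⊤ le_top) (t.appLE ⊤ ⊤ le_top)
        (p₁.appLE ⊤ ⊤ le_top) (p₂.appLE ⊤ ⊤ le_top) :=
      (isIso_pushoutSection_iff hc le_top le_top (UY := ⊤) e0).mp
        (isIso_pushoutSection_of_isAffineOpen hc le_top le_top e0 hS hV hU)
    have hp : CategoryTheory.IsPushout (secHom f ⊤) (secHom t ⊤)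
        (p₁.appLE ⊤ ⊤ le_top) (p₂.appLE ⊤ ⊤ le_top) :=
      hp0.of_iso' (Scheme.ΓSpecIso (CommRingCat.of A)).symm (Iso.refl _) (Iso.refl _) (Iso.refl _)
        (by simp [secHom]) (by simp [secHom]) (by simp) (by simp)
    letI := (secHom t ⊤).hom.toAlgebra
    letI := (p₁.appLE ⊤ ⊤ le_top).hom.toAlgebra
    letI := (p₂.appLE ⊤ ⊤ le_top).hom.toAlgebra
    letI : Algebra A Γ(pullback f t, ⊤) := ((p₁.appLE ⊤ ⊤ le_top).hom.comp (secHom f ⊤).hom).toAlgebra
    haveI : IsScalarTower A Γ(P, ⊤) Γ(pullback f t, ⊤) := .of_algebraMap_eq fun _ => rfl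
    haveI : IsScalarTower A Γ(T, ⊤) Γ(pullback f t, ⊤) :=
      IsScalarTower.of_algebraMap_eq' (congrArg CommRingCat.Hom.hom hp.w)
    haveI : Algebra.IsPushout A Γ(P, ⊤) Γ(T, ⊤) Γ(pullback f t, ⊤) :=
      (CommRingCat.isPushout_iff_isPushout.mp hp)
    let G' := (Scheme.Modules.pullback p₁).obj G
    letI := Module.compHom Γ(G', (⊤ : (pullback f t).Opens)) (p₁.appLE ⊤ ⊤ le_top).hom
    haveI : IsScalarTower Γ(P, ⊤) Γ(pullback f t, ⊤) Γ(G', (⊤ : (pullback f t).Opens)) :=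
      .of_algebraMap_smul fun _ _ => rfl
    letI := Module.compHom Γ(G', (⊤ : (pullback f t).Opens)) (p₂.appLE ⊤ ⊤ le_top).hom
    haveI : IsScalarTower Γ(T, ⊤) Γ(pullback f t, ⊤) Γ(G', (⊤ : (pullback f t).Opens)) :=
      .of_algebraMap_smul fun _ _ => rfl
    haveI : LocallyOfFiniteType p₂ := inferInstanceAs (LocallyOfFiniteType (pullback.snd f t))
    exact ⟨_, _, inferInstance, inferInstance, inferInstance, inferInstance, inferInstance, inferInstance,
      ‹_›, inferInstance, inferInstance, inferInstance, inferInstance, inferInstance, inferInstance,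
      H8Props.PullSections.pullLin p₁ G le_top,
      H8Props.PullSections.isBaseChange_pullLin p₁ G le_top hqc hU hW,
      dimFlat_iff p₂ G' (H29Fitt.isQCoh_pullback p₁ G hqc) n⟩
  -- the hypothesis
  have hflat : FlatCA.FlatInDimGE (d + 1) A Γ(P, ⊤) Γ(G, (⊤ : P.Opens)) := by
    haveI : IsIso (isAffineOpen_top P).fromSpec := by rw [IsAffineOpen.fromSpec_top]; infer_instance
    let t₀ : Spec (CommRingCat.of A) ⟶ Spec (CommRingCat.of A) := 𝟙 _
    let p₁ := pullback.fst f t₀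
    haveI : Flat p₁ := inferInstanceAs (Flat (pullback.fst f (𝟙 _)))
    have hw1 : (pullback.snd f t₀) = p₁ ≫ f := by rw [pullback.condition, Category.comp_id]
    rw [FdRing.flatInDimGE_iff]
    intro Q hQ hn
    by_contra hf
    obtain ⟨x, hx⟩ : ∃ x : P, (isAffineOpen_top P).primeIdealOf ⟨x, trivial⟩ = ⟨Q, hQ⟩ :=
      ⟨(isAffineOpen_top P).fromSpec ⟨Q, hQ⟩,
        (isAffineOpen_top P).fromSpec.isOpenEmbedding.injective ((isAffineOpen_top P).fromSpec_primeIdealOf _)⟩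
    obtain ⟨x', rfl⟩ : ∃ x', p₁ x' = x :=
      ⟨(asIso p₁).inv x, by rw [← Scheme.Hom.comp_apply]; simp⟩
    have hlt := h1 x' fun H => hf ?_
    · have e1 : pointTrdeg (pullback.snd f t₀) x' = pointTrdeg f (p₁ x') :=
        pointTrdeg_eq_of_iso (g := 𝟙 _) (by rw [Category.comp_id, hw1]) x'
      have e2 : pointTrdeg (Spec.map (secHom f ⊤)) ⟨Q, hQ⟩ =
          pointTrdeg f ((isAffineOpen_top P).fromSpec ⟨Q, hQ⟩) :=
        pointTrdeg_eq_of_iso (g := 𝟙 _) (by
          rw [IsAffineOpen.fromSpec_top, Category.comp_id, Iso.inv_comp_eq, isoSpec_secHom]) _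
      rw [← hx, (isAffineOpen_top P).fromSpec_primeIdealOf] at e2
      rw [FdRing.ptr_eq_pointTrdeg] at hn
      refine not_lt.2 (hn.trans_eq ((?_ : _ = pointTrdeg f (p₁ x')))) (e1.symm.trans_lt hlt)
      rw [← e2, hx]
      rfl
    · have H1 := (isFlatOverAt_pullback_iff p₁ f G x').1 ((isFlatOverAt_congr hw1 _ x').1 H)
      have H2 := (H8Props.FlatLocus.isFlatOverAt_iff_localizedModule f G hqc hS (isAffineOpen_top P) le_top
        ⟨_, trivial⟩).1 H1
      have eQ : ((isAffineOpen_top P).primeIdealOf ⟨p₁ x', trivial⟩).asIdeal = Q :=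
        congrArg PrimeSpectrum.asIdeal hx
      subst eQ
      let ρ := (Scheme.ΓSpecIso (CommRingCat.of A)).inv.hom
      letI : Algebra A Γ(Spec (CommRingCat.of A), ⊤) := ρ.toAlgebra
      letI := Module.compHom Γ(G, (⊤ : P.Opens)) (f.appLE ⊤ ⊤ le_top).hom
      letI := (f.appLE ⊤ ⊤ le_top).hom.toAlgebra
      haveI : IsScalarTower Γ(Spec (CommRingCat.of A), ⊤) Γ(P, ⊤) Γ(G, (⊤ : P.Opens)) :=
        .of_algebraMap_smul fun _ _ => rfl
      haveI : IsScalarTower A Γ(Spec (CommRingCat.of A), ⊤)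
          (LocalizedModule (((isAffineOpen_top P).primeIdealOf ⟨p₁ x', trivial⟩).asIdeal.primeCompl) Γ(G, (⊤ : P.Opens))) := .of_algebraMap_smul fun a z => by
        induction z using LocalizedModule.induction_on with
        | _ m r => rw [LocalizedModule.smul'_mk, LocalizedModule.smul'_mk]; rfl
      haveI : Module.Flat A Γ(Spec (CommRingCat.of A), ⊤) := RingHom.Flat.of_bijective
        (Scheme.ΓSpecIso (CommRingCat.of A)).commRingCatIsoToRingEquiv.symm.bijective
      haveI : Module.Flat Γ(Spec (CommRingCat.of A), ⊤) (LocalizedModule (((isAffineOpen_top P).primeIdealOf ⟨p₁ x', trivial⟩).asIdeal.primeCompl) Γ(G, (⊤ : P.Opens))) := H2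
      exact Module.Flat.trans A Γ(Spec (CommRingCat.of A), ⊤) _
  obtain ⟨g, hg, Z, i, hi1, hi2, hi3, -, hZ⟩ := FdRing.exists_representing Γ(G, (⊤ : P.Opens)) s D hdim d hflat
  let V : (Spec (CommRingCat.of A)).Opens := PrimeSpectrum.basicOpen g
  refine ⟨g, hg, _, pullback.snd i V.ι, represents_of_affine ((isLocalCond_dimP f G d).pull _) _ fun R x => ?_⟩
  let t : Spec R ⟶ Spec (CommRingCat.of A) := x ≫ V.ι
  obtain ⟨B', N', _, _, _, _, _, _, _, _, _, _, _, _, _, φ, hφ, he⟩ := key (Spec R) t d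
  letI := (secHom t ⊤).hom.toAlgebra
  have hu : IsUnit (algebraMap A Γ(Spec R, ⊤) g) := by
    by_contra hnu
    obtain ⟨m, hm, hgm⟩ := exists_max_ideal_of_mem_nonunits hnu
    let y : Spec R := (Spec R).isoSpec.inv ⟨m, hm.isPrime⟩
    have hy : t y ∈ V := (x y).2
    rw [show t = (Spec R).isoSpec.hom ≫ Spec.map (secHom t ⊤) from (isoSpec_secHom t).symm] at hy
    have hy' : (Spec R).isoSpec.hom y = ⟨m, hm.isPrime⟩ := by
      rw [← Scheme.Hom.comp_apply, Iso.inv_hom_id]; rfl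
    rw [Scheme.Hom.comp_apply, hy'] at hy
    exact hy hgm
  show dimP f G d (Spec R) t ↔ _
  rw [← he, hZ Γ(Spec R, ⊤) B' N' φ hφ hu]
  constructor
  · rintro ⟨k, hk⟩
    refine ⟨pullback.lift ((Spec R).isoSpec.hom ≫ k) x ?_, pullback.lift_snd _ _ _⟩
    rw [Category.assoc, hk]
    exact isoSpec_secHom t
  · rintro ⟨k, rfl⟩
    refine ⟨(Spec R).isoSpec.inv ≫ k ≫ pullback.fst i V.ι, ?_⟩
    rw [Category.assoc, Category.assoc, pullback.condition, Iso.inv_comp_eq]
    exact (Category.assoc _ _ _).symm.trans (isoSpec_secHom t).symm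

end Groth.Agent.H8Norm.FlatMono
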