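import Groth.Agent.H8Norm.FlatMono.Transport
import Groth.Agent.H7Flat.Chain.Cover
import Groth.Agent.H22Alg.SpecResidue
import Groth.Agent.H06Unram.DimInjective
import Groth.Agent.H16Derived.MVPush.Support

/-!
# One step of the descending induction: `F_d` near a point of the base
-/

set_option autoImplicit false
set_option linter.style.haveILetI false
set_option backward.isDefEq.respectTransparency false
set_option maxHeartbeats 1000000
set_option synthInstance.maxHeartbeats 400000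

universe u

open CategoryTheory CategoryTheory.Limits AlgebraicGeometry TensorProduct

namespace Groth.Agent.H8Norm.FlatMono

open H8Props.FunDescent FlatPointScheme H06Mod

theorem isRep_pull {S U : Scheme.{u}} {P : Cond S} (j : U ⟶ S) (hP : IsRep P) : IsRep (P.pull j) := by
  obtain ⟨Z, ι, h1, h2, h3, h4⟩ := hP
  refine ⟨_, pullback.snd ι j, inferInstance, inferInstance, inferInstance, fun T t => ?_⟩
  refine (h4 T (t ≫ j)).trans ⟨fun ⟨k, hk⟩ => ⟨pullback.lift k t hk, pullback.lift_snd _ _ _⟩, ?_⟩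
  rintro ⟨k, rfl⟩
  exact ⟨k ≫ pullback.fst ι j, by rw [Category.assoc, Category.assoc, pullback.condition]⟩

/-- A trivial residue extension in scheme form. -/
theorem bijective_residueFieldMap {A A' : Type u} [CommRing A] [CommRing A'] [Algebra A A']
    (p : Ideal A) [p.IsPrime] (p' : Ideal A') [p'.IsPrime] (h : FlatCA.IsEtaleNhd A A' p p') :
    Function.Bijective ((Spec.map (CommRingCat.ofHom (algebraMap A A'))).residueFieldMap
      (⟨p', inferInstance⟩ : PrimeSpectrum A')).hom := by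
  obtain ⟨-, ho, hbij⟩ := h
  obtain rfl : p = p'.under A := ho.over
  let f := Spec.map (CommRingCat.ofHom (algebraMap A A'))
  let x : Spec (CommRingCat.of A') := (⟨p', inferInstance⟩ : PrimeSpectrum A')
  let ι₁ := Scheme.Spec.residueFieldIso (CommRingCat.of A) (f x)
  let ι₂ := Scheme.Spec.residueFieldIso (CommRingCat.of A') x
  have hcomm : ι₂.inv.hom.comp (Ideal.ResidueField.map (p'.under A) p' (algebraMap A A') rfl) =
      (f.residueFieldMap x).hom.comp ι₁.inv.hom := by
    refine Ideal.ResidueField.ringHom_ext (RingHom.ext fun a => ?_)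
    have h1 := H22Alg.residueFieldMap_specEv (CommRingCat.ofHom (algebraMap A A')) x a
    rw [H22Alg.specEv_eq, H22Alg.specEv_eq] at h1
    refine Eq.trans ?_ h1.symm
    show ι₂.inv.hom (Ideal.ResidueField.map (p'.under A) p' (algebraMap A A') rfl
      (algebraMap A (p'.under A).ResidueField a)) = ι₂.inv.hom (algebraMap A' p'.ResidueField (algebraMap A A' a))
    rw [Ideal.ResidueField.map_algebraMap]
  have hb : Function.Bijective ((f.residueFieldMap x).hom.comp ι₁.inv.hom) := by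
    rw [← hcomm]
    exact ι₂.commRingCatIsoToRingEquiv.symm.bijective.comp hbij
  exact (Function.Bijective.of_comp_iff _ ι₁.commRingCatIsoToRingEquiv.symm.bijective).1 hb

/-- Points of a base change along a trivial residue extension are determined by their image. -/
theorem eq_of_fst_eq {P X Y Z : Scheme.{u}} {fst : P ⟶ X} {snd : P ⟶ Y} {f : X ⟶ Z} {g : Y ⟶ Z}
    (hc : IsPullback fst snd f g) (y : Y) [IsIso (g.residueFieldMap y)] {a b : P}
    (ha : snd a = y) (hb : snd b = y) (hab : fst a = fst b) : a = b := by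
  have sq := isPullback_fiberToSpecResidueField_of_isPullback hc y
  let m : snd.fiber y ⟶ f.fiber (g y) :=
    pullback.map _ _ _ _ fst (Spec.map (g.residueFieldMap y)) g hc.w.symm (by simp)
  haveI : IsIso m := sq.isIso_fst_of_isIso
  have hm : m ≫ f.fiberι (g y) = snd.fiberι y ≫ fst := pullback.lift_fst _ _ _
  obtain ⟨a', rfl⟩ : a ∈ Set.range (snd.fiberι y) := by rw [snd.range_fiberι]; exact ha
  obtain ⟨b', rfl⟩ : b ∈ Set.range (snd.fiberι y) := by rw [snd.range_fiberι]; exact hb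
  congr 1
  apply (asIso m).hom.homeomorph.injective
  apply (f.fiberι (g y)).isEmbedding.injective
  show f.fiberι (g y) (m a') = f.fiberι (g y) (m b')
  rw [← Scheme.Hom.comp_apply, ← Scheme.Hom.comp_apply, hm, Scheme.Hom.comp_apply, Scheme.Hom.comp_apply]
  exact hab

/-- The relative assassin stays inside opens containing the support of a fibre, near that fibre, after any
quasi-finite change of base. -/
def Good {X S : Scheme.{u}} (f : X ⟶ S) (F : X.Modules) : Prop :=
  ∀ (R : Type u) [CommRing R] (q : Spec (CommRingCat.of R) ⟶ S), LocallyQuasiFinite q → LocallyOfFiniteType q →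
    ∀ (X' : Scheme.{u}) (g' : X' ⟶ X) (f' : X' ⟶ Spec (CommRingCat.of R)) (G : X'.Modules)
      (_ : G ≅ (Scheme.Modules.pullback g').obj F), IsPullback g' f' f q →
    ∀ (t : Spec (CommRingCat.of R)) (W : X'.Opens), IsCompact (W : Set X') →
      (∀ x, f' x = t → x ∈ CohB1.support G → x ∈ W) →
      ∃ g : R, g ∉ t.asIdeal ∧
        ∀ x ∈ MoreMor.relAss f' G, f' x ∈ PrimeSpectrum.basicOpen g → x ∈ W

theorem Good.baseChange {X S : Scheme.{u}} {f : X ⟶ S} {F : X.Modules} (h : Good f F)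
    {X' S' : Scheme.{u}} {g' : X' ⟶ X} {f' : X' ⟶ S'} {ι : S' ⟶ S} (hc : IsPullback g' f' f ι)
    [LocallyQuasiFinite ι] [LocallyOfFiniteType ι] :
    Good f' ((Scheme.Modules.pullback g').obj F) := fun R _ q hq hq' X'' g'' f'' G e hc' =>
  haveI := hq
  haveI := hq'
  h R (q ≫ ι) inferInstance inferInstance X'' (g'' ≫ g') f'' G
    (e ≪≫ (Scheme.Modules.pullbackComp g'' g').app F) (hc'.paste_horiz hc)

/-- For closed morphisms the support does not come back. -/
theorem good_of_isProper {X S : Scheme.{u}} (f : X ⟶ S) [IsProper f] (F : X.Modules) (hF : CohB1.IsFP F) :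
    Good f F := by
  intro R _ q _ _ X' g' f' G e hc t W _ hW
  haveI : IsProper f' := MorphismProperty.of_isPullback hc ‹_›
  have hqc := H29Fitt.isQCoh_of_isFP F hF
  have hsupp : CohB1.support G = CohB1.support ((Scheme.Modules.pullback g').obj F) :=
    Groth.Agent.H16Derived.MVPush.support_iso e
  have hBad : IsClosed (CohB1.support G \ (W : Set X')) := by
    rw [hsupp]
    exact (H10Coh.isClosed_support _ (H29Fitt.isFT_pullback g' F hqc (H29Fitt.isFT_of_isFP F hF))).sdiff W.2
  obtain ⟨_, ⟨_, ⟨g, rfl⟩, rfl⟩, hg, hgBad⟩ := PrimeSpectrum.isBasis_basic_opens.exists_subset_of_mem_open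
    (show t ∈ (f' '' (CohB1.support G \ (W : Set X')))ᶜ from fun ⟨x, hx, hxt⟩ => hx.2 (hW x hxt hx.1))
    (f'.isClosedMap _ hBad).isOpen_compl
  refine ⟨g, hg, fun x hx hxg => ?_⟩
  by_contra hxW
  exact hgBad hxg ⟨x, ⟨subset_support_relAss f' G hx, hxW⟩, rfl⟩

variable {X S : Scheme.{u}} (f : X ⟶ S) [QuasiCompact f] [LocallyOfFinitePresentation f]
  (F : X.Modules) (hF : CohB1.IsFP F) (hgood : Good f F) (d : ℕ)

include hF hgood in
set_option maxHeartbeats 8000000 in
/-- Etale-locally on the base `F_d` is representable when `F` is flat in dimensions above `d`. -/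
theorem exists_nhd (h : dimP f F (d + 1) S (𝟙 S)) (s : S) :
    ∃ (V : Scheme.{u}) (q : V ⟶ S), Etale q ∧ s ∈ Set.range q ∧ IsRep ((dimP f F d).pull q) := by
  classical
  obtain ⟨_, ⟨V₀, hV, rfl⟩, hsV, -⟩ :=
    S.isBasis_affineOpens.exists_subset_of_mem_open (Set.mem_univ s) isOpen_univ
  let A : Type u := Γ(S, V₀)
  let ιA : Spec (CommRingCat.of A) ⟶ S := hV.fromSpec
  haveI : IsOpenImmersion ιA := hV.isOpenImmersion_fromSpec
  let sA : Spec (CommRingCat.of A) := hV.primeIdealOf ⟨s, hsV⟩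
  have hsA : ιA sA = s := hV.fromSpec_primeIdealOf _
  -- a finite affine cover over the affine open
  let XA := pullback f ιA
  haveI : CompactSpace XA := QuasiCompact.compactSpace_of_compactSpace (pullback.snd f ιA)
  let 𝒰 := XA.affineCover.finiteSubcover
  let X0 : Scheme.{u} := ∐ 𝒰.X
  haveI : ∀ i, IsAffine (𝒰.X i) := fun i => inferInstance
  let c0 : X0 ⟶ XA := Sigma.desc 𝒰.f
  haveI : Etale c0 := IsZariskiLocalAtSource.sigmaDesc fun i => inferInstance
  haveI : Etale (pullback.fst f ιA) := inferInstance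
  let h0 : X0 ⟶ X := c0 ≫ pullback.fst f ιA
  let f0 : X0 ⟶ Spec (CommRingCat.of A) := c0 ≫ pullback.snd f ιA
  have hw0 : h0 ≫ f = f0 ≫ ιA := by
    show (c0 ≫ pullback.fst f ιA) ≫ f = (c0 ≫ pullback.snd f ιA) ≫ ιA
    rw [Category.assoc, pullback.condition, Category.assoc]
  haveI : LocallyOfFinitePresentation f0 := inferInstance
  let G0 := (Scheme.Modules.pullback h0).obj F
  have hG0 : CohB1.IsFP G0 := H06EGA9.isFP_pullback h0 hF
  have hU0 : IsAffineOpen (⊤ : X0.Opens) := isAffineOpen_top X0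
  let B : Type u := Γ(X0, ⊤)
  letI : Algebra A B := (secHom f0 ⊤).hom.toAlgebra
  have hS : IsAffineOpen (⊤ : (Spec (CommRingCat.of A)).Opens) := isAffineOpen_top _
  haveI : Algebra.FinitePresentation A B := by
    have h1 : RingHom.FinitePresentation (f0.appLE ⊤ ⊤ le_top).hom :=
      HasRingHomProperty.appLE @LocallyOfFinitePresentation f0 ‹_› ⟨⊤, hS⟩ ⟨⊤, hU0⟩ le_top
    exact h1.comp (RingHom.FinitePresentation.of_bijective
      (Scheme.ΓSpecIso (CommRingCat.of A)).commRingCatIsoToRingEquiv.symm.bijective)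
  let N : Type u := Γ(G0, (⊤ : X0.Opens))
  haveI : Module.FinitePresentation B N := H8Props.FinLocFree.finitePresentation_sections G0 hG0 hU0
  obtain ⟨A', _, _, p', _, hnhd, k, C, _, aBC, aA'C, aAC, t1, t2, qc, _, hC, hcov⟩ :=
    H7Flat.Chain.exists_cover (R := A) (S := B) N sA.asIdeal Set.univ isOpen_univ fun _ _ => trivial
  haveI : Algebra.Etale A A' := hnhd.1
  let σ : Spec (CommRingCat.of A') ⟶ Spec (CommRingCat.of A) := Spec.map (CommRingCat.ofHom (algebraMap A A'))
  haveI : Etale σ := (HasRingHomProperty.Spec_iff (P := @Etale)).2 (RingHom.etale_algebraMap.2 ‹_›)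
  let q : Spec (CommRingCat.of A') ⟶ S := σ ≫ ιA
  let s' : Spec (CommRingCat.of A') := (⟨p', inferInstance⟩ : PrimeSpectrum A')
  have hs' : σ s' = sA := PrimeSpectrum.ext hnhd.2.choose.over.symm
  haveI : IsIso (σ.residueFieldMap s') :=
    (ConcreteCategory.isIso_iff_bijective _).2 (bijective_residueFieldMap sA.asIdeal p' hnhd)
  haveI : IsIso (q.residueFieldMap s') := by rw [Scheme.residueFieldMap_comp]; infer_instance
  let X' := pullback f q
  let p₁ := pullback.fst f q
  let p₂ := pullback.snd f q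
  let F' := (Scheme.Modules.pullback p₁).obj F
  have hF' : CohB1.IsFP F' := H06EGA9.isFP_pullback p₁ hF
  -- the pieces
  let P : Fin k → Scheme.{u} := fun i => Spec (CommRingCat.of (C i))
  let a : ∀ i, P i ⟶ X0 := fun i => Spec.map (CommRingCat.ofHom (algebraMap B (C i))) ≫ X0.isoSpec.inv
  let b : ∀ i, P i ⟶ Spec (CommRingCat.of A') := fun i => Spec.map (CommRingCat.ofHom (algebraMap A' (C i)))
  haveI hea : ∀ i, Etale (a i) := fun i => by
    haveI : Etale (Spec.map (CommRingCat.ofHom (algebraMap B (C i)))) :=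
      (HasRingHomProperty.Spec_iff (P := @Etale)).2 (RingHom.etale_algebraMap.2 (hC i).1)
    exact inferInstanceAs (Etale (Spec.map (CommRingCat.ofHom (algebraMap B (C i))) ≫ X0.isoSpec.inv))
  have hab : ∀ i, a i ≫ f0 = b i ≫ σ := fun i => by
    show (Spec.map (CommRingCat.ofHom (algebraMap B (C i))) ≫ X0.isoSpec.inv) ≫ f0 = _
    rw [Category.assoc, show X0.isoSpec.inv ≫ f0 = Spec.map (secHom f0 ⊤) from
      (Iso.inv_comp_eq _).2 (isoSpec_secHom f0).symm, ← Spec.map_comp, ← Spec.map_comp]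
    congr 1
    exact CommRingCat.hom_ext
      ((IsScalarTower.algebraMap_eq A B (C i)).symm.trans (IsScalarTower.algebraMap_eq A A' (C i)))
  let hh : ∀ i, P i ⟶ X' := fun i => pullback.lift (a i ≫ h0) (b i) (by
    rw [Category.assoc, hw0, reassoc_of% hab i])
  have hh1 : ∀ i, hh i ≫ p₁ = a i ≫ h0 := fun i => pullback.lift_fst _ _ _
  have hh2 : ∀ i, hh i ≫ p₂ = b i := fun i => pullback.lift_snd _ _ _
  haveI hetale : ∀ i, Etale (hh i) := fun i => by
    haveI : Etale (hh i ≫ p₁) := by rw [hh1]; infer_instance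
    exact MorphismProperty.of_postcomp (W := @Etale) (W' := @Etale) (hh i) p₁
      (inferInstanceAs (Etale (pullback.fst f q))) ‹_›
  -- the open covered by the pieces
  let U : X'.Opens := ⨆ i, (⟨Set.range (hh i), (hh i).isOpenMap.isOpen_range⟩ : X'.Opens)
  have hUmem : ∀ x : X', x ∈ U ↔ ∃ i, x ∈ Set.range (hh i) := fun x =>
    TopologicalSpace.Opens.mem_iSup.trans Iff.rfl
  have hUc : IsCompact (U : Set X') := by
    show IsCompact ((⨆ i, (⟨Set.range (hh i), (hh i).isOpenMap.isOpen_range⟩ : X'.Opens) : X'.Opens) : Set X')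
    rw [TopologicalSpace.Opens.coe_iSup]
    exact isCompact_iUnion fun i => isCompact_range (hh i).continuous
  obtain ⟨g₀, hg₀, hg₀U⟩ := hgood A' q (H06Unram.DimInjective.locallyQuasiFinite_of_formallyUnramified q) inferInstance X' p₁ p₂ F' (Iso.refl _)
      (IsPullback.of_hasPullback f q) s' U hUc fun x' hx2 hx' => by
    have hx2' : p₂ x' = s' := hx2
    have hfx : f (p₁ x') = ιA sA := by
      rw [← Scheme.Hom.comp_apply, pullback.condition, Scheme.Hom.comp_apply, hx2',
        Scheme.Hom.comp_apply, hs']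
    obtain ⟨z, hz1, -⟩ := Scheme.Pullback.exists_preimage_pullback (f := f) (g := ιA) (p₁ x') sA hfx
    obtain ⟨j, u, hu⟩ := 𝒰.exists_eq z
    let x0 : X0 := Sigma.ι 𝒰.X j u
    have hx0 : h0 x0 = p₁ x' := by
      show (c0 ≫ pullback.fst f ιA) (Sigma.ι 𝒰.X j u) = _
      rw [← Scheme.Hom.comp_apply, Sigma.ι_desc_assoc, Scheme.Hom.comp_apply, hu, hz1]
    have hf0 : f0 x0 = sA := ιA.isOpenEmbedding.injective (by
      rw [← Scheme.Hom.comp_apply, ← hw0, Scheme.Hom.comp_apply, hx0, hfx])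
    let y := hU0.primeIdealOf ⟨x0, trivial⟩
    have hyx : X0.isoSpec.inv y = x0 := by
      rw [← IsAffineOpen.fromSpec_top]; exact hU0.fromSpec_primeIdealOf _
    have hys : y.asIdeal.LiesOver sA.asIdeal := ⟨by
      rw [← hf0, ← hyx, ← Scheme.Hom.comp_apply,
        show X0.isoSpec.inv ≫ f0 = Spec.map (secHom f0 ⊤) from (Iso.inv_comp_eq _).2 (isoSpec_secHom f0).symm]
      rfl⟩
    have hsupp : y ∈ Module.support B N := by
      rw [Module.mem_support_iff]
      refine not_subsingleton_iff_nontrivial.1 fun hs1 => hx' (subsingleton_stalk_pullback p₁ F ?_)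
      rw [← hx0]
      refine subsingleton_stalk_of_pullback h0 F ?_
      letI := TopCat.Presheaf.algebra_section_stalk X0.presheaf (⟨x0, trivial⟩ : (⊤ : X0.Opens))
      letI := Module.compHom (G0.presheaf.stalk x0) (algebraMap Γ(X0, ⊤) (X0.presheaf.stalk x0))
      haveI := H29Fitt.isLocalizedModule_germLin G0 (H29Fitt.isQCoh_of_isFP G0 hG0) hU0 ⟨x0, trivial⟩
      exact (IsLocalizedModule.iso y.asIdeal.primeCompl
        (H29Fitt.germLin G0 (⟨x0, trivial⟩ : (⊤ : X0.Opens)))).symm.toEquiv.subsingleton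
    obtain ⟨i, Q, hQ, hQB, hQp⟩ := hcov y hys hsupp
    let w : P i := (⟨Q, hQ⟩ : PrimeSpectrum (C i))
    have ha : a i w = x0 := by
      refine Eq.trans ?_ hyx
      show X0.isoSpec.inv (Spec.map (CommRingCat.ofHom (algebraMap B (C i))) w) = _
      exact congrArg (fun v => X0.isoSpec.inv v) (PrimeSpectrum.ext hQB)
    have hb : b i w = s' := PrimeSpectrum.ext hQp.over.symm
    refine (hUmem x').2 ⟨i, w, eq_of_fst_eq (IsPullback.of_hasPullback f q) s' ?_ hx2' ?_⟩
    · show p₂ (hh i w) = s'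
      rw [← Scheme.Hom.comp_apply, hh2, hb]
    · show p₁ (hh i w) = p₁ x'
      rw [← Scheme.Hom.comp_apply, hh1, Scheme.Hom.comp_apply, ha, hx0]
  -- representability on each piece
  have hq1 : dimP p₂ F' (d + 1) _ (𝟙 _) := by
    rw [dimP_baseChange f F (IsPullback.of_hasPullback f q), Category.id_comp]
    have h' := (isLocalCond_dimP f F (d + 1)).comp q h
    rwa [Category.comp_id] at h'
  have hpiece : ∀ i, ∃ g : A', g ∉ p' ∧ IsRep ((dimP (hh i ≫ p₂) ((Scheme.Modules.pullback (hh i)).obj F') d).pull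
      (Scheme.Opens.ι (X := Spec (CommRingCat.of A')) (PrimeSpectrum.basicOpen g))) := by
    intro i
    let G := (Scheme.Modules.pullback (a i)).obj G0
    let eG : (Scheme.Modules.pullback (hh i)).obj F' ≅ G :=
      (Scheme.Modules.pullbackComp _ _).app F ≪≫ (Scheme.Modules.pullbackCongr (hh1 i)).app F ≪≫
        ((Scheme.Modules.pullbackComp (a i) h0).app F).symm
    let fi : P i ⟶ Spec (CommRingCat.of A') := hh i ≫ p₂
    haveI : LocallyOfFinitePresentation fi := inferInstance
    have h1 : dimP fi G (d + 1) _ (𝟙 _) :=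
      (dimP_congr_iso fi _ eG _ _ _).1 (dimCond_pullback (hh i) p₂ (Over.mk (𝟙 _)) F' (d + 1) hq1)
    obtain ⟨𝒟, ⟨𝒜⟩⟩ := (hC i).2.2.2
    letI : Algebra A' Γ(P i, ⊤) := (secHom fi ⊤).hom.toAlgebra
    letI : Algebra Γ(P i, ⊤) (C i) := (Scheme.ΓSpecIso (CommRingCat.of (C i))).hom.hom.toAlgebra
    have hΓ : ∀ {R R' : CommRingCat.{u}} (φ : R ⟶ R'),
        secHom (Spec.map φ) (⊤ : (Spec R').Opens) ≫ (Scheme.ΓSpecIso R').hom = φ := fun φ => by
      simp [secHom, Scheme.Hom.appLE]
    haveI : IsScalarTower A' Γ(P i, ⊤) (C i) := IsScalarTower.of_algebraMap_eq' (by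
      have e := congrArg CommRingCat.Hom.hom (hΓ (CommRingCat.ofHom (algebraMap A' (C i))))
      rw [CommRingCat.hom_comp] at e
      show algebraMap A' (C i) = _
      rw [← CommRingCat.hom_ofHom (algebraMap A' (C i)), ← e]
      show _ = (Scheme.ΓSpecIso _).hom.hom.comp (secHom fi ⊤).hom
      rw [show fi = b i from hh2 i])
    letI : Algebra B Γ(P i, ⊤) := ((a i).appLE ⊤ ⊤ le_top).hom.toAlgebra
    haveI : IsScalarTower B Γ(P i, ⊤) (C i) := IsScalarTower.of_algebraMap_eq' (by
      show algebraMap B (C i) = (Scheme.ΓSpecIso (CommRingCat.of (C i))).hom.hom.comp ((a i).appLE ⊤ ⊤ le_top).hom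
      rw [← CommRingCat.hom_ofHom (algebraMap B (C i)), ← CommRingCat.hom_comp]
      congr 1
      show _ = (Spec.map (CommRingCat.ofHom (algebraMap B (C i))) ≫ X0.isoSpec.inv).appLE ⊤ ⊤ le_top ≫ _
      rw [show ∀ {X Y : Scheme.{u}} (φ : X ⟶ Y), φ.appLE ⊤ ⊤ le_top = φ.appTop from
        fun φ => by simp [Scheme.Hom.appLE], Scheme.Hom.comp_appTop, Category.assoc, Scheme.ΓSpecIso_naturality]
      simp [Scheme.isoSpec]
      exact congrArg (· ≫ _) (Scheme.toSpecΓ_appTop X0))
    have hbij : Function.Bijective (algebraMap Γ(P i, ⊤) (C i)) :=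
      (Scheme.ΓSpecIso (CommRingCat.of (C i))).commRingCatIsoToRingEquiv.bijective
    letI := Module.compHom Γ(G, (⊤ : (P i).Opens)) ((a i).appLE ⊤ ⊤ le_top).hom
    haveI : IsScalarTower B Γ(P i, ⊤) Γ(G, (⊤ : (P i).Opens)) := .of_algebraMap_smul fun _ _ => rfl
    have hbc : IsBaseChange Γ(P i, ⊤) (H8Props.PullSections.pullLin (a i) G0 (W := ⊤) (U := ⊤) le_top) :=
      H8Props.PullSections.isBaseChange_pullLin (a i) G0 le_top (H29Fitt.isQCoh_of_isFP G0 hG0) hU0
        (isAffineOpen_top _)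
    let e1 : Γ(P i, ⊤) ≃ₗ[Γ(P i, ⊤)] C i := LinearEquiv.ofBijective (Algebra.linearMap Γ(P i, ⊤) (C i)) hbij
    let e : Γ(G, (⊤ : (P i).Opens)) ≃ₗ[Γ(P i, ⊤)] C i ⊗[B] N :=
      hbc.equiv.symm ≪≫ₗ AlgebraTensorModule.congr e1 (LinearEquiv.refl B N)
    exact exists_piece fi G (H06EGA9.isFP_pullback (a i) hG0) p' d h1
      (exists_devissage_of_bijective hbij e 𝒟 𝒜.d 𝒜.relDim) |>.imp fun g hg => ⟨hg.1,
        isRep_congr (fun T t => (dimP_congr_iso fi _ eG d T _).symm) hg.2⟩
  choose gi hgi hrep using hpiece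
  let g := g₀ * ∏ i, gi i
  let W : (Spec (CommRingCat.of A')).Opens := PrimeSpectrum.basicOpen g
  have hle₀ : W ≤ PrimeSpectrum.basicOpen g₀ := PrimeSpectrum.basicOpen_mul_le_left _ _
  have hle : ∀ i, W ≤ PrimeSpectrum.basicOpen (gi i) := fun i =>
    (PrimeSpectrum.basicOpen_mul_le_right _ _).trans
      ((PrimeSpectrum.basicOpen_le_basicOpen_iff _ _).2 (Ideal.le_radical
        (Ideal.mem_span_singleton.2 (Finset.dvd_prod_of_mem gi (Finset.mem_univ i)))))
  have hs'W : s' ∈ W := by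
    show g ∉ p'
    refine fun hm => (Ideal.IsPrime.mem_or_mem ‹_› hm).elim hg₀ fun hm' => ?_
    obtain ⟨i, -, hi⟩ := Ideal.IsPrime.prod_mem_iff.1 hm'
    exact hgi i hi
  refine ⟨W, W.ι ≫ q, inferInstance, ⟨⟨s', hs'W⟩, ?_⟩, ?_⟩
  · show ιA (σ s') = s
    rw [hs', hsA]
  refine isRep_congr (fun T t => Iff.symm ?_) (isRep_forall (fun i => (dimP (hh i ≫ p₂)
    ((Scheme.Modules.pullback (hh i)).obj F') d).pull W.ι) fun i => isRep_congr (fun T t => ?_)
      (isRep_pull ((Spec (CommRingCat.of A')).homOfLE (hle i)) (hrep i)))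
  · show dimP f F d T (t ≫ W.ι ≫ q) ↔ _
    rw [← Category.assoc, ← dimP_baseChange f F (IsPullback.of_hasPullback f q)]
    refine dimP_iff_forall p₂ F' (H29Fitt.isQCoh_of_isFP F' hF') (H29Fitt.isFT_of_isFP F' hF') P hh d T
      (t ≫ W.ι) fun x hx ⟨τ, hτ⟩ => (hUmem x).1 (hg₀U x hx (hle₀ ?_))
    rw [← hτ, Scheme.Hom.comp_apply]
    exact (t τ).2
  · show dimP _ _ d T ((t ≫ (Spec (CommRingCat.of A')).homOfLE (hle i)) ≫ _) ↔ dimP _ _ d T (t ≫ W.ι)
    rw [Category.assoc, Scheme.homOfLE_ι]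

include hF hgood in
/-- The inductive step. -/
theorem isRep_step (h : dimP f F (d + 1) S (𝟙 S)) : IsRep (dimP f F d) := by
  choose V q hq hs hrep using exists_nhd f F hF hgood d h
  exact isRep_of_family (isLocalCond_dimP f F d) V q (fun s => by haveI := hq s; infer_instance)
    (fun s => by haveI := hq s; infer_instance) (fun s => ⟨s, hs s⟩) hrep

end Groth.Agent.H8Norm.FlatMono
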